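/-
Arithmetic of the field with four elements and of its two-dimensional special unitary group.
-/
import Cfsg.Agent.Lib.SUAmalgam.Pairs

set_option autoImplicit false
set_option linter.unusedSectionVars false

open Matrix

namespace CfsgLib.SUPhanTwo

open CfsgLib.ClassicalForms CfsgLib.SUAmalgam

variable {F : Type*} [Field F] [Fintype F] (c : Conj F 2) (hF : Nat.card F = 2 ^ 2)
include hF

theorem two_eq_zero : (2 : F) = 0 := by
  have h : (Fintype.card F : F) = 0 := FiniteField.cast_card_eq_zero F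
  rw [← Nat.card_eq_fintype_card, hF] at h
  exact eq_zero_of_pow_eq_zero (by exact_mod_cast h : (2 : F) ^ 2 = 0)

theorem neg_eq (x : F) : -x = x := by linear_combination -x * two_eq_zero hF

theorem pow_three {x : F} (hx : x ≠ 0) : x ^ 3 = 1 := by
  have h := FiniteField.pow_card_sub_one_eq_one x hx
  rw [← Nat.card_eq_fintype_card, hF] at h
  simpa using h

/-- A primitive cube root of one. -/
theorem exists_w : ∃ w : F, w ^ 2 + w + 1 = 0 := by
  obtain ⟨c⟩ := exists_conj hF
  obtain ⟨t, ht, ht1, -⟩ := exists_norm_one_ne hF c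
  have h3 : t ^ 3 = 1 := by rw [← ht, c.apply]; ring
  refine ⟨t, (mul_eq_zero.1 (show (t - 1) * (t ^ 2 + t + 1) = 0 by linear_combination h3)
    ).resolve_left (sub_ne_zero.2 ht1)⟩

theorem w_ne_zero {w : F} (hw : w ^ 2 + w + 1 = 0) : w ≠ 0 := by
  rintro rfl
  exact one_ne_zero (α := F) (by linear_combination hw)

theorem w_cube {w : F} (hw : w ^ 2 + w + 1 = 0) : w ^ 3 = 1 := by linear_combination (w - 1) * hw

theorem w_ne_one {w : F} (hw : w ^ 2 + w + 1 = 0) : w ≠ 1 := by
  rintro rfl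
  exact one_ne_zero (α := F) (by linear_combination hw - two_eq_zero hF)

theorem w_sq_ne_one {w : F} (hw : w ^ 2 + w + 1 = 0) : w ^ 2 ≠ 1 := fun h =>
  w_ne_zero hF hw (by linear_combination hw - h - two_eq_zero hF)

theorem elem_cases {w : F} (hw : w ^ 2 + w + 1 = 0) (x : F) :
    x = 0 ∨ x = 1 ∨ x = w ∨ x = w ^ 2 := by
  by_cases hx : x = 0
  · exact Or.inl hx
  have : (x - 1) * ((x - w) * (x - w ^ 2)) = 0 := by
    linear_combination pow_three hF hx + (-x ^ 2 + x * w) * hw - w_cube hF hw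
  simpa [sub_eq_zero] using Or.inr this

include c

omit hF in
theorem conj_sq (x : F) : c.σ x = x ^ 2 := c.apply x

theorem nm_of_ne {x : F} (hx : x ≠ 0) : nm c x = 1 := by
  rw [nm, conj_sq c, ← pow_three hF hx]; ring

theorem conj_inv {x : F} (hx : x ≠ 0) : c.σ x = x⁻¹ :=
  eq_inv_of_mul_eq_one_right (nm_of_ne c hF hx)

theorem nm_fixed_cases (x : F) : nm c x = 0 ∨ nm c x = 1 := by
  by_cases hx : x = 0
  · exact Or.inl (by rw [hx, nm_zero])
  · exact Or.inr (nm_of_ne c hF hx)

theorem ne_of_nm {x : F} (h : nm c x = 1) : x ≠ 0 := by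
  rintro rfl
  rw [nm_zero] at h
  exact zero_ne_one h

/-- Every element of the two-dimensional group is monomial. -/
theorem mono (g : SUg 2 F 2) : mat g 0 0 = 0 ∨ mat g 1 0 = 0 := by
  obtain ⟨h1, h2⟩ := shape c g
  have hd : (mat g).det = 1 := g.1.2
  rw [Matrix.det_fin_two, h1, h2] at hd
  by_contra h
  simp only [not_or] at h
  have ha := nm_of_ne c hF h.1
  have hb := nm_of_ne c hF h.2
  simp only [nm] at ha hb
  exact one_ne_zero (α := F) (by linear_combination ha + hb - hd + two_eq_zero hF)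

/-- The diagonal element. -/
def dg (a : F) (h : nm c a = 1) : SUg 2 F 2 := sb c a 0 (by rw [h, nm_zero, add_zero])

/-- The antidiagonal element. -/
def ad (b : F) (h : nm c b = 1) : SUg 2 F 2 := sb c 0 b (by rw [h, nm_zero, zero_add])

omit hF in
theorem mat_dg (a : F) (h : nm c a = 1) : mat (dg c a h) = !![a, 0; 0, c.σ a] := by
  rw [dg, mat_sb]; ext k l; fin_cases k <;> fin_cases l <;> simp

theorem mat_ad (b : F) (h : nm c b = 1) : mat (ad c b h) = !![0, c.σ b; b, 0] := by
  rw [ad, mat_sb]; ext k l; fin_cases k <;> fin_cases l <;> simp [neg_eq hF]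

theorem elem_forms (g : SUg 2 F 2) : (∃ a h, g = dg c a h) ∨ ∃ b h, g = ad c b h := by
  obtain ⟨h1, h2⟩ := shape c g
  have hd : (mat g).det = 1 := g.1.2
  rw [Matrix.det_fin_two, h1, h2] at hd
  rcases mono c hF g with h | h
  · refine Or.inr ⟨mat g 1 0, by simp only [nm]; simp [h] at hd; linear_combination hd, ?_⟩
    refine ext_mat fun k l => ?_
    rw [mat_ad c hF]
    fin_cases k <;> fin_cases l <;> simp [h, h1, h2, neg_eq hF]
  · refine Or.inl ⟨mat g 0 0, by simp only [nm]; simp [h] at hd; linear_combination hd, ?_⟩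
    refine ext_mat fun k l => ?_
    rw [mat_dg c]
    fin_cases k <;> fin_cases l <;> simp [h, h1, h2]

theorem ad_sq (b : F) (h : nm c b = 1) : ad c b h * ad c b h = 1 := by
  refine ext_mat fun k l => ?_
  rw [mat_mul, mat_ad c hF]
  simp only [nm] at h
  fin_cases k <;> fin_cases l <;> simp [mul_comm, h]

theorem dg_mul (a b : F) (ha : nm c a = 1) (hb : nm c b = 1) :
    dg c a ha * dg c b hb = dg c (a * b) (by rw [nm_mul, ha, hb, one_mul]) := by
  refine ext_mat fun k l => ?_
  rw [mat_mul, mat_dg, mat_dg, mat_dg]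
  fin_cases k <;> fin_cases l <;> simp

theorem dg_mul_ad (a b : F) (ha : nm c a = 1) (hb : nm c b = 1) :
    dg c a ha * ad c b hb = ad c (c.σ a * b) (by rw [nm_mul, nm_conj, ha, hb, one_mul]) := by
  refine ext_mat fun k l => ?_
  rw [mat_mul, mat_dg, mat_ad c hF, mat_ad c hF]
  fin_cases k <;> fin_cases l <;> simp [c.invol]

/-- Generation by a torus element and one antidiagonal element. -/
theorem mem_of_gens {w : F} (hw : w ^ 2 + w + 1 = 0) (S : Subgroup (SUg 2 F 2))
    (ht : dg c w (nm_of_ne c hF (w_ne_zero hF hw)) ∈ S) (hj : ad c 1 (nm_one c) ∈ S)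
    (g : SUg 2 F 2) : g ∈ S := by
  have hd : ∀ a h, dg c a h ∈ S := by
    intro a h
    rcases elem_cases hF hw a with rfl | rfl | rfl | rfl
    · exact absurd rfl (ne_of_nm c hF h)
    · convert one_mem S
      refine ext_mat fun k l => ?_
      rw [mat_dg c]
      fin_cases k <;> fin_cases l <;> simp
    · exact ht
    · convert mul_mem ht ht using 1
      rw [dg_mul c hF]
      simp only [sq]
  rcases elem_forms c hF g with ⟨a, h, rfl⟩ | ⟨b, h, rfl⟩
  · exact hd a h
  · convert mul_mem (hd (c.σ b) (by rw [nm_conj]; exact h)) hj using 1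
    rw [dg_mul_ad c hF]
    simp only [c.invol, mul_one]

/-- The diagonal twist. -/
noncomputable def D (a : F) (ha : nm c a = 1) : SUg 2 F 2 →* SUg 2 F 2 :=
  semi c ![1, a] (by intro i; fin_cases i <;> simp [ha]) (RingEquiv.refl F)

/-- The conjugation as an automorphism. -/
def cE : F ≃+* F := { c.σ with invFun := c.σ, left_inv := c.invol, right_inv := c.invol }

omit hF in
theorem cE_apply (x : F) : cE c x = c.σ x := rfl

omit hF in
theorem cE_comm {τ : F ≃+* F} (x : F) : τ (c.σ x) = c.σ (τ x) := by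
  rw [c.apply, c.apply, map_pow]

/-- An automorphism normalising the torus is a diagonal semilinear one. -/
theorem exists_semi (α : SUg 2 F 2 ≃* SUg 2 F 2) (hD : ∀ g, IsDiag₂ g → IsDiag₂ (α g)) :
    ∃ (b : F) (τ : F ≃+* F), (τ = RingEquiv.refl F ∨ τ = cE c) ∧ nm c b = 1 ∧ ∀ g, mat (α g) =
      Matrix.diagonal ![1, b] * (mat g).map τ * Matrix.diagonal ![1, c.σ b] := by
  classical
  obtain ⟨w, hw⟩ := exists_w hF
  have hwn := nm_of_ne c hF (w_ne_zero hF hw)
  set t := dg c w hwn with ht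
  set j := ad c 1 (nm_one c) with hj
  obtain ⟨a, h, ea⟩ := diag_eq_sb (c := c) (hD t (by simp [IsDiag₂, ht, mat_dg c]))
  have ha : nm c a = 1 := by rwa [nm_zero, add_zero] at h
  have ea' : α t = dg c a ha := ea
  have hane : a ≠ 1 := by
    rintro rfl
    have e : α t = 1 := by
      rw [ea']
      refine ext_mat fun k l => ?_
      rw [mat_dg c]
      fin_cases k <;> fin_cases l <;> simp
    have h1 := congrArg (fun p => mat p 0 0) (α.injective (e.trans (map_one α).symm))
    simp [ht, mat_dg c] at h1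
    exact w_ne_one hF hw h1
  obtain ⟨τ, hτ, hτ'⟩ : ∃ τ : F ≃+* F, τ w = a ∧ (τ = RingEquiv.refl F ∨ τ = cE c) := by
    rcases elem_cases hF hw a with e | e | e | e
    · exact absurd e (ne_of_nm c hF ha)
    · exact absurd e hane
    · exact ⟨_, e.symm, Or.inl rfl⟩
    · exact ⟨_, by rw [cE_apply, conj_sq c, e], Or.inr rfl⟩
  obtain ⟨b, hb, eb⟩ : ∃ b hb, α j = ad c b hb := by
    rcases elem_forms c hF (α j) with ⟨b, hb, e⟩ | h
    swap
    · exact h
    exfalso
    have h1 : α (t * j) = α (j * t) := by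
      rw [map_mul, map_mul, ea', e, dg_mul c hF, dg_mul c hF]
      simp only [mul_comm a b]
    have h3 := congrArg (fun z => mat z 1 0) (α.injective h1)
    simp [mat_mul, Matrix.mul_apply, Fin.sum_univ_two, ht, hj, mat_dg c, mat_ad c hF, conj_sq c] at h3
    exact w_ne_one hF hw (mul_left_cancel₀ (w_ne_zero hF hw) (by linear_combination h3))
  have hd : ∀ i, nm c ((![1, b] : Fin 2 → F) i) = 1 := by intro i; fin_cases i <;> simp [hb]
  let β : SUg 2 F 2 ≃* SUg 2 F 2 := MulEquiv.ofBijective _ (semi_bijective c _ hd τ)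
  have hβt : β t = α t := by
    refine ext_mat fun k l => ?_
    show mat (semi c _ hd τ t) k l = _
    rw [mat_semi_apply, ea', ht, mat_dg c, mat_dg c]
    have hbb : b * c.σ b = 1 := hb
    fin_cases k <;> fin_cases l <;> simp [hτ, cE_comm c]
    linear_combination c.σ a * hbb
  have hβj : β j = α j := by
    refine ext_mat fun k l => ?_
    show mat (semi c _ hd τ j) k l = _
    rw [mat_semi_apply, eb, hj, mat_ad c hF, mat_ad c hF]
    fin_cases k <;> fin_cases l <;> simp
  refine ⟨b, τ, hτ', hb, fun g => ?_⟩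
  have e : α g = β g := mem_of_gens c hF hw (MonoidHom.eqLocus α.toMonoidHom β.toMonoidHom)
    hβt.symm hβj.symm g
  rw [e]
  show mat (semi c _ hd τ g) = _
  rw [mat_semi]
  congr 2
  funext i
  fin_cases i <;> simp

variable {G : Type*} [Group G] {c}

/-- Adjusting the second of two consecutive standard pairs. -/
theorem exists_adjust {V A B V' C : Subgroup G}
    {φ φ' : SUg 3 F 2 →* G} (h : IsPair c V A B φ) (h' : IsPair c V' B C φ')
    (hAC : ∀ x ∈ A, ∀ y ∈ C, x * y = y * x) :
    ∃ φ'' : SUg 3 F 2 →* G, IsPair c V' B C φ'' ∧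
      φ''.comp (emb (r := 2) c 0 (by norm_num)) = φ.comp (emb (r := 2) c 1 (by norm_num)) := by
  classical
  set a := φ.comp (emb (r := 2) c 1 (by norm_num)) with hadef
  set b := φ'.comp (emb (r := 2) c 0 (by norm_num)) with hbdef
  let α : SUg 2 F 2 ≃* SUg 2 F 2 :=
    ((MonoidHom.ofInjective h.inj₁).trans (MulEquiv.subgroupCongr (h.range₁.trans h'.range₀.symm))).trans
      (MonoidHom.ofInjective h'.inj₀).symm
  have hα : ∀ g, b (α g) = a g := fun g => by
    have e1 : (MonoidHom.ofInjective h'.inj₀ (α g) : G) = a g := by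
      show ((MonoidHom.ofInjective h'.inj₀) ((MonoidHom.ofInjective h'.inj₀).symm _) : G) = a g
      rw [MulEquiv.apply_symm_apply]
      rfl
    exact e1
  obtain ⟨t₀, ht₀, ht₀1, ht₀2⟩ := exists_norm_one_ne hF c
  have hts₀ : nm c t₀ + nm c (0 : F) = 1 := by rw [nm_zero, add_zero]; exact ht₀
  have hd₁ : ∀ i, nm c ((![1, t₀] : Fin 2 → F) i) = 1 := by
    intro i; fin_cases i <;> simp [show nm c t₀ = 1 from ht₀]
  set u := φ' (emb c 1 (by norm_num : 1 + 2 ≤ 3) (sb c t₀ 0 hts₀)) with hudef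
  have huC : u ∈ C := h'.range₁ ▸ ⟨_, rfl⟩
  -- the centraliser of a torus element cuts out the diagonal elements
  have hcent : ∀ g, IsDiag₂ g ↔ u * b g * u⁻¹ = b g := by
    intro g
    have e : u * b g * u⁻¹ = b (semi c _ hd₁ (RingEquiv.refl F) g) := by
      rw [hudef, hbdef]
      show φ' _ * φ' _ * (φ' _)⁻¹ = φ' _
      rw [← map_inv, ← map_mul, ← map_mul, conj_torus₁ t₀ hts₀ g hd₁]
    rw [e]
    constructor
    · intro hg
      congr 1
      refine ext_mat fun k l => ?_
      rw [mat_semi_apply]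
      have htt : t₀ * c.σ t₀ = 1 := ht₀
      fin_cases k <;> fin_cases l <;> simp [hg.1, hg.2]
      linear_combination (mat g 1 1) * htt
    · intro hg
      have e2 := h'.inj₀ hg
      have h01 := congrArg (fun z => mat z 0 1) e2
      simp [mat_semi_apply] at h01
      obtain ⟨-, hs⟩ := shape c g
      have hne : c.σ t₀ ≠ 1 := fun e1 => ht₀1 (by rw [← c.invol t₀, e1, map_one])
      have hz : mat g 0 1 = 0 := by
        by_contra hz
        exact hne (mul_left_cancel₀ hz (h01.trans (mul_one _).symm))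
      refine ⟨hz, ?_⟩
      rw [hz] at hs
      exact c.eq_zero (neg_eq_zero.1 hs.symm)
  -- the preimage of the torus consists of diagonal elements
  have hsub : ∀ g, IsDiag₂ (α g) → IsDiag₂ g := by
    intro g hg
    have hd₀ : ∀ i, nm c ((![c.σ t₀, 1] : Fin 2 → F) i) = 1 := by
      intro i; fin_cases i <;> simp [show nm c t₀ = 1 from ht₀]
    set g' := semi c _ hd₀ (RingEquiv.refl F) g with hg'def
    set v := φ (emb c 0 (by norm_num : (0 : ℕ) + 2 ≤ 3) (sb c t₀ 0 hts₀)) with hvdef
    have hvA : v ∈ A := h.range₀ ▸ ⟨_, rfl⟩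
    have hconj : a g' = v * a g * v⁻¹ := by
      rw [hvdef, hadef]
      show φ _ = φ _ * φ _ * (φ _)⁻¹
      rw [← map_inv, ← map_mul, ← map_mul, conj_torus₀ t₀ hts₀ g hd₀]
    have hdiag' : IsDiag₂ (α g') := by
      rw [hcent, hα, hconj]
      have h1 := (hcent _).1 hg
      rw [hα] at h1
      have hc1 := hAC v hvA u huC
      calc u * (v * a g * v⁻¹) * u⁻¹ = (u * v) * a g * (u * v)⁻¹ := by group
        _ = (v * u) * a g * (v * u)⁻¹ := by rw [hc1]
        _ = v * (u * a g * u⁻¹) * v⁻¹ := by group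
        _ = _ := by rw [h1]
    have hcomm : g * g' = g' * g := α.injective (by rw [map_mul, map_mul]; exact diag_comm hg hdiag')
    have h00 := congrArg (fun z => mat z 0 0) hcomm
    obtain ⟨-, hs⟩ := shape c g
    simp [mat_mul, Matrix.mul_apply, Fin.sum_univ_two, hg'def, mat_semi_apply, hs, c.invol] at h00
    have hts : t₀ * c.σ t₀ = 1 := ht₀
    have hne : t₀ ≠ c.σ t₀ := fun e1 => ht₀2 (by
      conv_lhs => arg 2; rw [e1]
      exact hts)
    have hy : c.σ (mat g 1 0) * mat g 1 0 * (t₀ - c.σ t₀) = 0 := by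
      linear_combination -h00
    rcases mul_eq_zero.1 hy with h0 | h0
    · have hz : mat g 1 0 = 0 := (mul_eq_zero.1 h0).elim c.eq_zero id
      exact ⟨by rw [hs, hz, map_zero, neg_zero], hz⟩
    · exact absurd (sub_eq_zero.1 h0) hne
  have hD : ∀ g, IsDiag₂ g → IsDiag₂ (α g) := by
    let f : {g : SUg 2 F 2 // IsDiag₂ g} → {g : SUg 2 F 2 // IsDiag₂ g} := fun g =>
      ⟨α.symm g.1, hsub _ (by rw [MulEquiv.apply_symm_apply]; exact g.2)⟩
    have hf : Function.Surjective f := Finite.surjective_of_injective fun x y e =>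
      Subtype.ext (α.symm.injective (congrArg Subtype.val e))
    intro g hg
    obtain ⟨⟨x, hx⟩, e⟩ := hf ⟨g, hg⟩
    have e1 : α.symm x = g := congrArg Subtype.val e
    rw [← e1, MulEquiv.apply_symm_apply]
    exact hx
  obtain ⟨β, τ, -, hβ, hmain⟩ := exists_semi c hF α hD
  have hd3 : ∀ i, nm c ((![1, β, 1] : Fin 3 → F) i) = 1 := by intro i; fin_cases i <;> simp [hβ]
  refine ⟨φ'.comp (semi c _ hd3 τ), h'.comp_semi _ hd3 τ, MonoidHom.ext fun g => ?_⟩
  show φ' (semi c _ hd3 τ (emb c 0 _ g)) = a g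
  rw [← hα, semi_emb]
  refine congrArg (fun z => φ' (emb c 0 _ z)) (ext_mat fun k l => ?_)
  rw [hmain, mat_semi_apply]
  fin_cases k <;> fin_cases l <;> simp [shift, Matrix.mul_diagonal, Matrix.diagonal_mul]

end CfsgLib.SUPhanTwo
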