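/-
Three blocks in the four-dimensional group over the field with four elements are standard in some frame.
-/
import Cfsg.Agent.Lib.SUPhanTwo.Frame

set_option autoImplicit false
set_option linter.unusedSectionVars false

open Matrix

namespace CfsgLib.SUPhanTwo

open CfsgLib.ClassicalForms CfsgLib.SUAmalgam

variable {F : Type*} [Field F] [Fintype F] {c : Conj F 2} {w : F} {hw : nm c w = 1}

/-- The powers of a cube root of one. -/
def pw (w : F) (x : ZMod 3) : F := w ^ x.val

theorem pw_add (h3 : w ^ 3 = 1) (x y : ZMod 3) : pw w (x + y) = pw w x * pw w y := by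
  simp only [pw]
  rw [← pow_add, ZMod.val_add]
  conv_rhs => rw [← Nat.mod_add_div (x.val + y.val) 3, pow_add, pow_mul, h3, one_pow, mul_one]

theorem pw_injective (hF : Nat.card F = 2 ^ 2) (hw : w ^ 2 + w + 1 = 0) :
    Function.Injective (pw w) := by
  intro x y h
  have h1 := w_ne_one hF hw
  have h2 := w_sq_ne_one hF hw
  have h12 : w ^ 2 ≠ w := fun e => h1 (mul_left_cancel₀ (w_ne_zero hF hw) (by linear_combination e))
  have v0 : pw w 0 = 1 := pow_zero w
  have v1 : pw w 1 = w := pow_one w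
  have v2 : pw w 2 = w ^ 2 := rfl
  have cases3 : ∀ x : ZMod 3, x = 0 ∨ x = 1 ∨ x = 2 := by decide
  rcases cases3 x with rfl | rfl | rfl <;> rcases cases3 y with rfl | rfl | rfl <;>
    simp only [v0, v1, v2] at h <;>
    first
      | rfl
      | exact absurd h h1 | exact absurd h.symm h1 | exact absurd h h2 | exact absurd h.symm h2
      | exact absurd h h12 | exact absurd h.symm h12

/-- A reflection on characters. -/
def rf (k : Fin 3) (χ : Fin 3 → ZMod 3) : Fin 3 → ZMod 3 := fun j =>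
  if j = k then χ k + χ k else
    if (k : ℕ) + 1 = j ∨ (j : ℕ) + 1 = k then χ k + χ j else χ j

/-- The characters of the standard frame. -/
def std (i : Fin 4) : Fin 3 → ZMod 3 := fun k =>
  if (i : ℕ) = k then 1 else if (i : ℕ) = k + 1 then -1 else 0

/-- Some images of a character. -/
def imgs (a : Fin 3 → ZMod 3) : List (Fin 3 → ZMod 3) :=
  [a, rf 0 a, rf 1 a, rf 2 a, rf 0 (rf 1 a), rf 0 (rf 2 a), rf 1 (rf 0 a), rf 1 (rf 2 a),
    rf 2 (rf 0 a), rf 2 (rf 1 a), rf 0 (rf 1 (rf 2 a)), rf 2 (rf 1 (rf 0 a)), rf 2 (rf 0 (rf 1 a))]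

set_option synthInstance.maxSize 2000 in
theorem orbit_cases : ∀ a : Fin 3 → ZMod 3, a = 0 ∨ (∀ j, std j ∈ imgs a) ∨ (∀ j, -std j ∈ imgs a) ∨
    5 ≤ (imgs a).toFinset.card := by decide +kernel

set_option synthInstance.maxSize 2000 in
theorem std_injective' : ∀ i l : Fin 4, std i = std l → i = l := by decide +kernel

theorem zmod3_ne_zero : ∀ s : ZMod 3, s ≠ 0 → s = 1 ∨ s = 2 := by decide

theorem zmod3_neg : ∀ s : ZMod 3, s + s = s * -1 := by decide

set_option synthInstance.maxSize 2000 in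
theorem rf_fixed : ∀ s : ZMod 3, s ≠ 0 → ∀ k : Fin 3, ∀ i l : Fin 4,
    ((i : ℕ) < k ∨ (k : ℕ) + 2 ≤ i) → rf k (s • std i) = s • std l → l = i := by decide +kernel

/-- The torus of a block. -/
def tor (a : Fin 3 → (SUg 2 F 2 →* SUg 4 F 2)) (hw : nm c w = 1) (k : Fin 3) : SUg 4 F 2 :=
  a k (dg c w hw)

/-- The involution of a block. -/
def inv₂ (c : Conj F 2) (a : Fin 3 → (SUg 2 F 2 →* SUg 4 F 2)) (k : Fin 3) : SUg 4 F 2 :=
  a k (ad c 1 (nm_one c))

/-- Three blocks with the relations of a window. -/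
structure Tri (c : Conj F 2) (a : Fin 3 → (SUg 2 F 2 →* SUg 4 F 2)) (hw : nm c w = 1) : Prop where
  inj : ∀ k, Function.Injective (a k)
  far : ∀ x y, Commute (a 0 x) (a 2 y)
  comm : ∀ k l : Fin 3, (k : ℕ) + 1 = l → Commute (tor a hw k) (tor a hw l)
  up : ∀ k l : Fin 3, (k : ℕ) + 1 = l →
    tor a hw l * inv₂ c a k = inv₂ c a k * (tor a hw k * tor a hw l)
  down : ∀ k l : Fin 3, (k : ℕ) + 1 = l →
    tor a hw k * inv₂ c a l = inv₂ c a l * (tor a hw l * tor a hw k)

variable {a : Fin 3 → (SUg 2 F 2 →* SUg 4 F 2)}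

theorem Tri.comp_equiv (W : Tri c a hw) (E : SUg 4 F 2 ≃* SUg 4 F 2) :
    Tri c (fun k => E.toMonoidHom.comp (a k)) hw where
  inj k := E.injective.comp (W.inj k)
  far x y := (W.far x y).map E.toMonoidHom
  comm k l h := (W.comm k l h).map E.toMonoidHom
  up k l h := by
    show E _ * E _ = E _ * (E _ * E _)
    rw [← map_mul, ← map_mul, ← map_mul]
    exact congrArg E (W.up k l h)
  down k l h := by
    show E _ * E _ = E _ * (E _ * E _)
    rw [← map_mul, ← map_mul, ← map_mul]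
    exact congrArg E (W.down k l h)

theorem mat_emb_dg (c : Conj F 2) {k : ℕ} (hk : k + 2 ≤ 4) (b : F) (hb : nm c b = 1) :
    mat (emb c k hk (dg c b hb)) =
      Matrix.diagonal fun i : Fin 4 => if (i : ℕ) = k then b else if (i : ℕ) = k + 1 then c.σ b else 1 := by
  ext i l
  by_cases h : ((i : ℕ) < k ∨ k + 2 ≤ (i : ℕ)) ∨ ((l : ℕ) < k ∨ k + 2 ≤ (l : ℕ))
  · rw [mat_emb_other c k hk _ h, Pi.single_apply]
    by_cases hil : i = l
    · subst hil
      rw [Matrix.diagonal_apply_eq, if_pos rfl, if_neg (by omega), if_neg (by omega)]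
    · rw [Matrix.diagonal_apply_ne _ hil, if_neg hil]
  · simp only [not_or, not_lt, not_le] at h
    obtain ⟨⟨h1, h2⟩, h3, h4⟩ := h
    obtain ⟨p, rfl⟩ : ∃ p, shift (r := 2) k hk p = i :=
      ⟨⟨i - k, by omega⟩, Fin.ext (show k + ((i : ℕ) - k) = i by omega)⟩
    obtain ⟨q, rfl⟩ : ∃ q, shift (r := 2) k hk q = l :=
      ⟨⟨l - k, by omega⟩, Fin.ext (show k + ((l : ℕ) - k) = l by omega)⟩
    rw [mat_emb_shift, mat_dg, Matrix.diagonal_apply]
    simp only [(shift_injective k hk).eq_iff]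
    fin_cases p <;> fin_cases q <;> simp [shift]

theorem col_ne_zero {n : ℕ} (u : SUg n F 2) (i : Fin n) : ∃ l, mat u l i ≠ 0 := by
  by_contra h
  simp only [not_exists, ne_eq, not_not] at h
  have h1 : act u (Pi.single i 1) = act u 0 := by
    funext l; rw [act_single, h, act_zero]; rfl
  have := congrArg (act u⁻¹) h1
  rw [act_inv_act, act_inv_act] at this
  simpa using congrFun this i

/-- Simultaneous diagonalisation in a frame. -/
theorem exists_diag (c : Conj F 2) (hF : Nat.card F = 2 ^ 2) {n : ℕ} (v : Fin n → Fin n → F)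
    (hv : ∀ i l, hm n (v i) (v l) = if i = l then 1 else 0) {ι : Type*} (d : ι → SUg n F 2)
    (e : Fin n → ι → F) (he : ∀ i r, act (d r) (v i) = e i r • v i) :
    ∃ E : SUg n F 2 ≃* SUg n F 2, ∀ r, mat (E.symm (d r)) = Matrix.diagonal fun i => e i r := by
  obtain ⟨E, hE⟩ := exists_frame_conj c hF v hv
  refine ⟨E, fun r => Matrix.ext_of_mulVec_single fun i => ?_⟩
  show act (E.symm (d r)) _ = _
  rw [hE (E.symm (d r)) i (e i r) (by rw [MulEquiv.apply_symm_apply]; exact he i r)]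
  funext l
  simp [Matrix.diagonal, Pi.single_apply]
  split <;> simp_all

section

variable (W : Tri c a hw) (hF : Nat.card F = 2 ^ 2) (hw' : w ^ 2 + w + 1 = 0)
include W hF hw'

theorem tor_cube (k : Fin 3) : tor a hw k * tor a hw k * tor a hw k = 1 := by
  rw [tor, ← map_mul, ← map_mul, dg_mul c hF, dg_mul c hF]
  refine Eq.trans (congrArg _ (ext_mat fun i l => ?_)) (map_one _)
  rw [mat_dg]
  have : w * w * w = 1 := by linear_combination w_cube hF hw'
  fin_cases i <;> fin_cases l <;> simp [this]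

theorem inv₂_sq (k : Fin 3) : inv₂ c a k * inv₂ c a k = 1 := by
  rw [inv₂, ← map_mul, ad_sq c hF, map_one]

theorem self_rel (k : Fin 3) :
    tor a hw k * inv₂ c a k = inv₂ c a k * (tor a hw k * tor a hw k) := by
  rw [tor, inv₂, ← map_mul, ← map_mul, ← map_mul]
  refine congrArg _ (ext_mat fun i l => ?_)
  have hc : c.σ w = w ^ 2 := conj_sq c w
  have h3 := w_cube hF hw'
  rw [dg_mul c hF, dg_mul_ad c hF, mat_mul, mat_ad c hF, mat_ad c hF, mat_dg]
  fin_cases i <;> fin_cases l <;> simp [hc]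
  all_goals ring

theorem far₀₂ : Commute (tor a hw 0) (tor a hw 2) := W.far _ _

theorem tor_commute (k l : Fin 3) : Commute (tor a hw k) (tor a hw l) := by
  have h01 := W.comm 0 1 rfl
  have h12 := W.comm 1 2 rfl
  fin_cases k <;> fin_cases l <;>
    first
      | exact Commute.refl _
      | exact h01 | exact h01.symm | exact h12 | exact h12.symm
      | exact far₀₂ W hF hw' | exact (far₀₂ W hF hw').symm

/-- A frame in which the tori are diagonal. -/
theorem exists_tor_diag : ∃ (E : SUg 4 F 2 ≃* SUg 4 F 2) (χ : Fin 4 → Fin 3 → ZMod 3),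
    ∀ k, mat (E.symm (tor a hw k)) = Matrix.diagonal fun i => pw w (χ i k) := by
  obtain ⟨v, hv, he⟩ := exists_eigen_frame c hF (tor a hw) (tor_cube W hF hw') (tor_commute W hF hw')
  choose e he0 he using he
  have : ∀ i r, ∃ x : ZMod 3, e i r = pw w x := fun i r => by
    rcases elem_cases hF hw' (e i r) with h | h | h | h
    · exact absurd h (he0 i r)
    · exact ⟨0, by simp [pw, h]⟩
    · exact ⟨1, by simp [pw, h, ZMod.val_one]⟩
    · exact ⟨2, by rw [h]; rfl⟩
  choose χ hχ using this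
  obtain ⟨E, hE⟩ := exists_diag c hF v hv (tor a hw) (fun i r => pw w (χ i r))
    (fun i r => by rw [← hχ]; exact he i r)
  exact ⟨E, χ, hE⟩

variable {χ : Fin 4 → Fin 3 → ZMod 3}
  (hd : ∀ k, mat (tor a hw k) = Matrix.diagonal fun i => pw w (χ i k))
include hd

theorem inv₂_entry (k : Fin 3) (i l : Fin 4) (h : mat (inv₂ c a k) l i ≠ 0) : χ l = rf k (χ i) := by
  have h3 := w_cube hF hw'
  funext j
  have main : ∀ R : SUg 4 F 2, tor a hw j * inv₂ c a k = inv₂ c a k * R → ∀ x : ZMod 3,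
      (∃ f : Fin 4 → F, mat R = Matrix.diagonal f ∧ f i = pw w x) → χ l j = x := by
    rintro R hR x ⟨f, hf, hfi⟩
    have e := congrFun (congrFun (congrArg mat hR) l) i
    rw [mat_mul, mat_mul, hd, hf, Matrix.diagonal_mul, Matrix.mul_diagonal, hfi, mul_comm] at e
    exact pw_injective hF hw' (mul_left_cancel₀ h e)
  have prod : ∀ p q : Fin 3, ∃ f : Fin 4 → F, mat (tor a hw p * tor a hw q) = Matrix.diagonal f ∧
      f i = pw w (χ i p + χ i q) := fun p q =>
    ⟨_, by rw [mat_mul, hd, hd, Matrix.diagonal_mul_diagonal], (pw_add h3 _ _).symm⟩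
  by_cases hj : j = k
  · subst hj
    rw [rf, if_pos rfl]
    exact main _ (self_rel W hF hw' j) _ (prod j j)
  by_cases hadj : (k : ℕ) + 1 = j ∨ (j : ℕ) + 1 = k
  · rw [rf, if_neg hj, if_pos hadj]
    rcases hadj with hkj | hjk
    · exact main _ (W.up k j hkj) _ (prod k j)
    · exact main _ (W.down j k hjk) _ (prod k j)
  · rw [rf, if_neg hj, if_neg hadj]
    have hc : Commute (tor a hw j) (inv₂ c a k) := by
      have : (k = 0 ∧ j = 2) ∨ (k = 2 ∧ j = 0) := by
        revert hj hadj; fin_cases k <;> fin_cases j <;> simp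
      rcases this with ⟨rfl, rfl⟩ | ⟨rfl, rfl⟩
      · exact (W.far _ _).symm
      · exact W.far _ _
    exact main _ hc.eq _ ⟨_, hd j, rfl⟩

theorem exists_perm : ∃ (π : Fin 4 → Fin 4) (s : ZMod 3), Function.Injective π ∧ s ≠ 0 ∧
    ∀ i, χ (π i) = s • std i := by
  classical
  have hnz : ∃ i, χ i ≠ 0 := by
    by_contra h
    simp only [not_exists, not_not] at h
    have h1 : tor a hw 0 = 1 := by
      refine ext_mat fun i l => ?_
      rw [hd, mat_one]
      simp [h, pw, Matrix.one_apply, Matrix.diagonal_apply]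
    have h2 := congrArg (fun z => mat z 0 0) (W.inj 0 (h1.trans (map_one (a 0)).symm))
    simp [mat_dg] at h2
    exact w_ne_one hF hw' h2
  obtain ⟨i₀, hi₀⟩ := hnz
  let S : Finset (Fin 3 → ZMod 3) := Finset.univ.image χ
  have step : ∀ k, ∀ x ∈ S, rf k x ∈ S := by
    intro k x hx
    obtain ⟨i, -, rfl⟩ := Finset.mem_image.1 hx
    obtain ⟨l, hl⟩ := col_ne_zero (inv₂ c a k) i
    exact Finset.mem_image.2 ⟨l, Finset.mem_univ _, inv₂_entry W hF hw' hd k i l hl⟩
  have hS : ∀ x ∈ imgs (χ i₀), x ∈ S := by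
    have h0 : χ i₀ ∈ S := Finset.mem_image.2 ⟨i₀, Finset.mem_univ _, rfl⟩
    simp only [imgs, List.mem_cons, List.not_mem_nil, or_false]
    rintro x (rfl | rfl | rfl | rfl | rfl | rfl | rfl | rfl | rfl | rfl | rfl | rfl | rfl) <;>
      repeat' first | exact h0 | apply step
  have hcard : (imgs (χ i₀)).toFinset.card ≤ 4 :=
    (Finset.card_le_card fun x hx => hS x (List.mem_toFinset.1 hx)).trans
      (Finset.card_image_le.trans (by simp))
  rcases orbit_cases (χ i₀) with h | h | h | h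
  · exact absurd h hi₀
  · have : ∀ i, ∃ l, χ l = std i := fun i => by
      obtain ⟨l, -, hl⟩ := Finset.mem_image.1 (hS _ (h i))
      exact ⟨l, hl⟩
    choose π hπ using this
    exact ⟨π, 1, fun x y e => std_injective' x y (by rw [← hπ x, ← hπ y, e]), by decide,
      fun i => by rw [hπ, one_smul]⟩
  · have : ∀ i, ∃ l, χ l = -std i := fun i => by
      obtain ⟨l, -, hl⟩ := Finset.mem_image.1 (hS _ (h i))
      exact ⟨l, hl⟩
    choose π hπ using this
    exact ⟨π, -1, fun x y e => std_injective' x y (neg_injective (by rw [← hπ x, ← hπ y, e])),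
      by decide, fun i => by rw [hπ, neg_smul, one_smul]⟩
  · omega

theorem inv₂_std {s : ZMod 3} (hs : s ≠ 0) (hχ : ∀ i, χ i = s • std i) (k : Fin 3) :
    ∃ b hb, inv₂ c a k = emb c k (by omega) (ad c b hb) := by
  have hk : (k : ℕ) + 2 ≤ 4 := by omega
  have hmem : inv₂ c a k ∈ Blk c 4 k 2 := by
    intro i hi
    have hoff : ∀ l, l ≠ i → mat (inv₂ c a k) l i = 0 := fun l hl => by
      by_contra h
      have := inv₂_entry W hF hw' hd k i l h
      rw [hχ, hχ] at this
      exact hl (rf_fixed s hs k i l hi this.symm)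
    have h1 := congrFun (congrFun (congrArg mat (inv₂_sq W hF hw' k)) i) i
    rw [mat_mul, Matrix.mul_apply, Finset.sum_eq_single i (fun l _ hl => by rw [hoff l hl, mul_zero])
      (by simp), mat_one, Matrix.one_apply_eq] at h1
    have hx : mat (inv₂ c a k) i i = 1 := sub_eq_zero.1 (eq_zero_of_pow_eq_zero
      (show (mat (inv₂ c a k) i i - 1) ^ 2 = 0 by
        linear_combination h1 + (1 - mat (inv₂ c a k) i i) * two_eq_zero hF))
    funext l
    rw [act_single]
    by_cases hl : l = i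
    · subst hl; simp [hx]
    · rw [hoff l hl, Pi.single_apply, if_neg hl]
  obtain ⟨g, hg⟩ := (range_emb c (k : ℕ) hk).ge hmem
  rcases elem_forms c hF g with ⟨b, hb, rfl⟩ | ⟨b, hb, rfl⟩
  · exfalso
    have hc : Commute (tor a hw k) (inv₂ c a k) := by
      refine ext_mat fun i l => ?_
      rw [mat_mul, mat_mul, hd, ← hg, mat_emb_dg, Matrix.diagonal_mul_diagonal,
        Matrix.diagonal_mul_diagonal]
      simp only [mul_comm]
    rw [tor, inv₂] at hc
    have h1 := W.inj k (((map_mul (a k) _ _).trans hc.eq).trans (map_mul (a k) _ _).symm)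
    have h3 := congrArg (fun z => mat z 1 0) h1
    simp [mat_mul, Matrix.mul_apply, Fin.sum_univ_two, mat_dg, mat_ad c hF, conj_sq c] at h3
    exact w_ne_one hF hw' (mul_left_cancel₀ (w_ne_zero hF hw') (by linear_combination h3))
  · exact ⟨b, hb, hg.symm⟩

/-- In a standard frame the blocks differ by a diagonal semilinear map. -/
theorem exists_semi_std {s : ZMod 3} (hs : s ≠ 0) (hχ : ∀ i, χ i = s • std i) :
    ∃ B : SUg 4 F 2 ≃* SUg 4 F 2, ∀ (k : Fin 3) x,
      B (emb c (k : ℕ) (show (k : ℕ) + 2 ≤ 4 by omega) x) = a k x := by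
  classical
  have h3 := w_cube hF hw'
  have hc : c.σ w = w ^ 2 := conj_sq c w
  obtain ⟨τ, hτ⟩ : ∃ τ : F ≃+* F, τ w = pw w s := by
    rcases zmod3_ne_zero s hs with rfl | rfl
    · exact ⟨RingEquiv.refl F, by simp [pw, ZMod.val_one]⟩
    · exact ⟨cE c, by rw [cE_apply, hc]; rfl⟩
  obtain ⟨b₀, hb₀, e₀⟩ := inv₂_std W hF hw' hd hs hχ 0
  obtain ⟨b₁, hb₁, e₁⟩ := inv₂_std W hF hw' hd hs hχ 1
  obtain ⟨b₂, hb₂, e₂⟩ := inv₂_std W hF hw' hd hs hχ 2
  have hv : ∀ i, nm c ((![1, b₀, b₀ * b₁, b₀ * b₁ * b₂] : Fin 4 → F) i) = 1 := by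
    intro i; fin_cases i <;> simp [nm_mul, hb₀, hb₁, hb₂]
  let B : SUg 4 F 2 ≃* SUg 4 F 2 := MulEquiv.ofBijective _ (semi_bijective c _ hv τ)
  refine ⟨B, fun k x => ?_⟩
  refine mem_of_gens c hF hw' (MonoidHom.eqLocus
    (B.toMonoidHom.comp (emb c (k : ℕ) (show (k : ℕ) + 2 ≤ 4 by omega))) (a k)) ?_ ?_ x
  · show semi c _ hv τ (emb c (k : ℕ) _ (dg c w _)) = tor a hw k
    refine ext_mat fun i l => ?_
    rw [mat_semi_apply, mat_emb_dg, hd]
    by_cases hil : i = l
    · subst hil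
      rw [Matrix.diagonal_apply_eq, Matrix.diagonal_apply_eq, hχ]
      have hvv := hv i
      rw [nm] at hvv
      have key : ∀ t u : F, τ t = u →
          (![1, b₀, b₀ * b₁, b₀ * b₁ * b₂] : Fin 4 → F) i * τ t *
            c.σ ((![1, b₀, b₀ * b₁, b₀ * b₁ * b₂] : Fin 4 → F) i) = u := fun t u htu => by
        rw [htu]; linear_combination u * hvv
      refine key _ _ ?_
      rw [Pi.smul_apply, smul_eq_mul, std]
      split_ifs
      · rw [mul_one, hτ]
      · rw [hc, map_pow, hτ, sq, ← pw_add h3]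
        congr 1
        exact zmod3_neg s
      · rw [mul_zero, map_one]; simp [pw]
    · rw [Matrix.diagonal_apply_ne _ hil, Matrix.diagonal_apply_ne _ hil, map_zero, mul_zero, zero_mul]
  · show semi c _ hv τ (emb c (k : ℕ) _ (ad c 1 _)) = inv₂ c a k
    rw [semi_emb c (k : ℕ) _ _ hv]
    fin_cases k
    · refine Eq.trans (congrArg (emb c 0 (by norm_num)) (ext_mat fun i l => ?_)) e₀.symm
      rw [mat_semi_apply, mat_ad c hF, mat_ad c hF]
      fin_cases i <;> fin_cases l <;> simp [shift]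
    · refine Eq.trans (congrArg (emb c 1 (by norm_num)) (ext_mat fun i l => ?_)) e₁.symm
      rw [mat_semi_apply, mat_ad c hF, mat_ad c hF]
      have hh : b₀ * c.σ b₀ = 1 := hb₀
      fin_cases i <;> fin_cases l <;> simp [shift]
      · linear_combination c.σ b₁ * hh
      · linear_combination b₁ * hh
    · refine Eq.trans (congrArg (emb c 2 (by norm_num)) (ext_mat fun i l => ?_)) e₂.symm
      rw [mat_semi_apply, mat_ad c hF, mat_ad c hF]
      have hh : b₀ * b₁ * c.σ (b₀ * b₁) = 1 := by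
        have := hv 2; simpa [nm] using this
      rw [map_mul] at hh
      fin_cases i <;> fin_cases l <;> simp [shift]
      · linear_combination c.σ b₂ * hh
      · linear_combination b₂ * hh

end

/-- The three blocks are standard after an automorphism. -/
theorem Tri.exists_iso (W : Tri c a hw) (hF : Nat.card F = 2 ^ 2) (hw' : w ^ 2 + w + 1 = 0) :
    ∃ α : SUg 4 F 2 ≃* SUg 4 F 2, ∀ (k : Fin 3) x,
      α (emb c (k : ℕ) (show (k : ℕ) + 2 ≤ 4 by omega) x) = a k x := by
  classical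
  obtain ⟨E₁, χ, hE₁⟩ := exists_tor_diag W hF hw'
  have W₁ := W.comp_equiv E₁.symm
  obtain ⟨π, s, hπ, hs, hχ⟩ := exists_perm W₁ hF hw' hE₁
  obtain ⟨E₂, hE₂⟩ := exists_diag c hF (fun i => (Pi.single (π i) 1 : Fin 4 → F))
    (fun i l => by
      rw [hm, c.single_right]
      by_cases h : i = l
      · subst h; simp
      · rw [if_neg h, Pi.single_apply, if_neg (fun e => h (hπ e).symm)])
    (tor (fun k => E₁.symm.toMonoidHom.comp (a k)) hw) (fun i r => pw w (χ (π i) r))
    (fun i r => by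
      funext l
      show act (E₁.symm (tor a hw r)) _ l = _
      rw [act_single, hE₁, Matrix.diagonal_apply, Pi.smul_apply, Pi.single_apply]
      by_cases h : l = π i
      · subst h; simp
      · simp [h])
  obtain ⟨B, hB⟩ := exists_semi_std (W₁.comp_equiv E₂.symm) hF hw' hE₂ hs (fun i => hχ i)
  refine ⟨B.trans (E₂.trans E₁), fun k x => ?_⟩
  show E₁ (E₂ (B _)) = _
  rw [hB]
  show E₁ (E₂ (E₂.symm (E₁.symm (a k x)))) = _
  rw [MulEquiv.apply_symm_apply, MulEquiv.apply_symm_apply]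

end CfsgLib.SUPhanTwo
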