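/-
Elements of the three-dimensional special unitary group over the field with four elements.
-/
import Cfsg.Agent.Lib.SUPhanTwo.Field
import Cfsg.Agent.Lib.SUAmalgam.Coord

set_option autoImplicit false
set_option linter.unusedSectionVars false

open Matrix

namespace CfsgLib.SUPhanTwo

open CfsgLib.ClassicalForms CfsgLib.SUAmalgam

variable {F : Type*} [Field F] [Fintype F] {m : ℕ} (c : Conj F 2) (hF : Nat.card F = 2 ^ 2)
include c hF

/-- An element with a given last row of full weight. -/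
theorem exists_A {w : F} (hw : w ^ 2 + w + 1 = 0) {r₀ r₁ r₂ : F} (h₀ : r₀ ≠ 0) (h₁ : r₁ ≠ 0)
    (h₂ : r₂ ≠ 0) : ∃ a : SUg 3 F 2, mat a = !![(r₀ * r₁ * r₂)⁻¹ * r₀, (r₀ * r₁ * r₂)⁻¹ * (w * r₁),
      (r₀ * r₁ * r₂)⁻¹ * (w ^ 2 * r₂); r₀, w ^ 2 * r₁, w * r₂; r₀, r₁, r₂] := by
  obtain ⟨δ, hδdef⟩ : ∃ δ, δ = (r₀ * r₁ * r₂)⁻¹ := ⟨_, rfl⟩
  rw [← hδdef]
  have hδ : δ * (r₀ * r₁ * r₂) = 1 := hδdef ▸ inv_mul_cancel₀ (by simp [h₀, h₁, h₂])
  have hδn : δ * c.σ δ = 1 := nm_of_ne c hF (hδdef ▸ inv_ne_zero (by simp [h₀, h₁, h₂]))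
  have e₀ : r₀ * c.σ r₀ = 1 := nm_of_ne c hF h₀
  have e₁ : r₁ * c.σ r₁ = 1 := nm_of_ne c hF h₁
  have e₂ : r₂ * c.σ r₂ = 1 := nm_of_ne c hF h₂
  have h3 := w_cube hF hw
  have t2 := two_eq_zero hF
  set A : Matrix (Fin 3) (Fin 3) F := !![δ * r₀, δ * (w * r₁),
      δ * (w ^ 2 * r₂); r₀, w ^ 2 * r₁, w * r₂; r₀, r₁, r₂] with hA
  have hdet : A.det = 1 := by
    rw [hA, Matrix.det_fin_three]
    simp
    linear_combination (3 * w ^ 2 - 2 * w - w ^ 4) * hδ + 3 * hw + (-3 * w - 2) * t2 - w * h3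
  have hun : ∀ i l, (∑ k, A i k * c.σ (A l k)) = if i = l then 1 else 0 := by
    intro i l
    have hcw : c.σ w = w ^ 2 := conj_sq c w
    fin_cases i <;> fin_cases l <;> simp [hA, Fin.sum_univ_three, hcw, map_mul, map_pow]
    · linear_combination (r₀ * c.σ r₀ + w ^ 3 * (r₁ * c.σ r₁) + w ^ 6 * (r₂ * c.σ r₂)) * hδn +
        e₀ + w ^ 3 * e₁ + w ^ 6 * e₂ + (2 + w ^ 3) * h3 + t2
    · linear_combination δ * e₀ + δ * w ^ 5 * e₁ + δ * w ^ 4 * e₂ + δ * (w ^ 2 + w) * h3 + δ * hw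
    · linear_combination δ * e₀ + δ * w * e₁ + δ * w ^ 2 * e₂ + δ * hw
    · linear_combination c.σ δ * e₀ + c.σ δ * w ^ 4 * e₁ + c.σ δ * w ^ 5 * e₂ +
        c.σ δ * (w ^ 2 + w) * h3 + c.σ δ * hw
    · linear_combination e₀ + w ^ 6 * e₁ + w ^ 3 * e₂ + (2 + w ^ 3) * h3 + t2
    · linear_combination e₀ + w ^ 2 * e₁ + w * e₂ + hw
    · linear_combination c.σ δ * e₀ + c.σ δ * w ^ 2 * e₁ + c.σ δ * w ^ 4 * e₂ + c.σ δ * w * h3 +
        c.σ δ * hw
    · linear_combination e₀ + w ^ 4 * e₁ + w ^ 2 * e₂ + w * h3 + hw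
    · linear_combination e₀ + e₁ + e₂ + t2
  refine ⟨mk A hdet (fun x y => ?_), rfl⟩
  have key : A * (A.map c.σ)ᵀ = 1 := by
    ext i l
    rw [Matrix.mul_apply, Matrix.one_apply]
    simpa using hun i l
  have key' : (A.map c.σ)ᵀ * A = 1 := mul_eq_one_comm.1 key
  have f : ∀ a b, (∑ k, c.σ (A k a) * A k b) = if a = b then 1 else 0 := fun a b => by
    have := congrFun (congrFun key' a) b
    rw [Matrix.mul_apply, Matrix.one_apply] at this
    simpa using this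
  have f' : ∀ a b, (∑ k, A k a * c.σ (A k b)) = if a = b then 1 else 0 := fun a b => by
    have := congrArg c.σ (f a b)
    simp only [map_sum, map_mul, c.invol] at this
    rw [this]
    split <;> simp
  rw [c.herm_apply, c.herm_apply]
  simp only [Matrix.mulVec, dotProduct, map_sum, map_mul, Finset.sum_mul_sum]
  rw [Finset.sum_comm]
  refine Finset.sum_congr rfl fun a _ => ?_
  rw [Finset.sum_comm]
  calc ∑ b, ∑ k, A k a * x a * (c.σ (A k b) * c.σ (y b))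
      = ∑ b, x a * c.σ (y b) * (if a = b then 1 else 0) := Finset.sum_congr rfl fun b _ => by
        rw [← f', Finset.mul_sum]; exact Finset.sum_congr rfl fun k _ => by ring
    _ = _ := by simp

/-- The cyclic permutation. -/
theorem exists_cyc : ∃ P : SUg 3 F 2, mat P = !![0, 0, 1; 1, 0, 0; 0, 1, 0] := by
  refine ⟨mk !![0, 0, 1; 1, 0, 0; 0, 1, 0] (by simp [Matrix.det_fin_three]) (fun x y => ?_), rfl⟩
  rw [c.herm_apply, c.herm_apply]
  simp [Matrix.mulVec, dotProduct, Fin.sum_univ_three]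
  ring

/-- An element with a given first row of full weight. -/
theorem exists_B {w : F} (hw : w ^ 2 + w + 1 = 0) {r₀ r₁ r₂ : F} (h₀ : r₀ ≠ 0) (h₁ : r₁ ≠ 0)
    (h₂ : r₂ ≠ 0) : ∃ a : SUg 3 F 2, mat a 0 0 = r₀ ∧ mat a 0 1 = r₁ ∧ mat a 0 2 = r₂ := by
  obtain ⟨a, ha⟩ := exists_A c hF hw h₀ h₁ h₂
  obtain ⟨P, hP⟩ := exists_cyc c hF
  refine ⟨P * a, ?_, ?_, ?_⟩ <;> rw [mat_mul, hP, ha] <;>
    simp [Matrix.mul_apply, Fin.sum_univ_three]

/-- A first row killing a given vector. -/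
theorem exists_kill (y₀ y₁ y₂ : F) :
    ∃ a : SUg 3 F 2, mat a 0 0 * y₀ + mat a 0 1 * y₁ + mat a 0 2 * y₂ = 0 := by
  by_cases h₀ : y₀ = 0
  · exact ⟨1, by simp [h₀]⟩
  obtain ⟨P, hP⟩ := exists_cyc c hF
  by_cases h₂ : y₂ = 0
  · exact ⟨P, by simp [hP, h₂]⟩
  by_cases h₁ : y₁ = 0
  · exact ⟨P * P, by rw [mat_mul, hP]; simp [Matrix.mul_apply, Fin.sum_univ_three, h₁]⟩
  obtain ⟨w, hw⟩ := exists_w hF
  have hw0 := w_ne_zero hF hw
  obtain ⟨a, a0, a1, a2⟩ := exists_B c hF hw (r₀ := 1 / y₀) (r₁ := w / y₁) (r₂ := w ^ 2 / y₂)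
    (by simp [h₀]) (by simp [h₁, hw0]) (by simp [h₂, hw0])
  refine ⟨a, ?_⟩
  rw [a0, a1, a2, div_mul_cancel₀ _ h₀, div_mul_cancel₀ _ h₁, div_mul_cancel₀ _ h₂]
  linear_combination hw

omit hF in
/-- The coordinates after acting by a three-dimensional block. -/
theorem co_emb3 {j : ℕ} (hj : j + 3 ≤ m) (a : SUg 3 F 2) (x : Fin m → F) (i : Fin 3) :
    co (act (emb c j hj a) x) (j + i) =
      mat a i 0 * co x j + mat a i 1 * co x (j + 1) + mat a i 2 * co x (j + 2) := by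
  rw [co_mk _ (show j + (i : ℕ) < m by omega)]
  show act (emb c j hj a) x (shift j hj i) = _
  rw [act_emb_shift]
  show (mat a *ᵥ _) i = _
  simp only [Matrix.mulVec, dotProduct, Fin.sum_univ_three]
  rw [co_mk x (show j < m by omega), co_mk x (show j + 1 < m by omega),
    co_mk x (show j + 2 < m by omega)]
  rfl

/-- Killing the first coordinate inside a block. -/
theorem move_kill {j : ℕ} (hj : j + 3 ≤ m) (x : Fin m → F) :
    ∃ g ∈ Blk c m j 3, co (act g x) j = 0 := by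
  obtain ⟨a, ha⟩ := exists_kill c hF (co x j) (co x (j + 1)) (co x (j + 2))
  exact ⟨_, emb_mem_Blk c j hj a, by simpa using (co_emb3 c hj a x 0).trans ha⟩

omit hF in
theorem T_zero_of {j : ℕ} {x : Fin m → F} (h : ∀ l, j ≤ l → co x l = 0) : T (q := 2) j x = 0 := by
  rw [T_congr (y := (0 : Fin m → F)) fun l hl => by rw [h l hl, co_zero], T_eq_sum c]
  simp

/-- Transitivity on the unit vectors of a three-dimensional block. -/
theorem trans_three {j : ℕ} (hj : j + 3 ≤ m) (x : Fin m → F)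
    (hout : ∀ l, l < j ∨ j + 3 ≤ l → co x l = 0) (hT : T (q := 2) j x = 1) :
    ∃ g ∈ Blk c m j 3, act g x = ev m F j := by
  obtain ⟨g₁, hg₁, h0⟩ := move_kill c hF hj x
  set y := act g₁ x with hy
  have hyT : T (q := 2) j y = 1 := by rw [hy, T_Blk c hg₁ (Or.inl le_rfl), hT]
  have hyo : ∀ l, l < j ∨ j + 3 ≤ l → co y l = 0 := fun l hl => by
    rw [hy, co_Blk c hg₁ hl, hout l hl]
  rw [T_succ c j, h0, nm_zero, zero_add, T_succ c (j + 1), T_succ c (j + 1 + 1),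
    T_zero_of c (j := j + 1 + 1 + 1) (fun l hl => hyo l (Or.inr (by omega))), add_zero] at hyT
  obtain ⟨g₂, hg₂, a1, a2⟩ := move_frame c (show j + 1 + 2 ≤ m by omega) y (a := 1) (b := 0)
    (by rw [hyT]; exact one_ne_zero) (by rw [hyT, nm_one, nm_zero, add_zero])
  set z := act g₂ y with hz
  have hz0 : co z j = 0 := by rw [hz, co_Blk c hg₂ (Or.inl (by omega)), h0]
  obtain ⟨g₃, hg₃, b0, b1⟩ := move_frame c (show j + 2 ≤ m by omega) z (a := 1) (b := 0)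
    (by rw [hz0, a1]; simp) (by rw [hz0, a1]; simp)
  refine ⟨g₃ * (g₂ * g₁), mul_mem (Blk_mono c le_rfl (by omega) hg₃)
    (mul_mem (Blk_mono c (by omega) (by omega) hg₂) hg₁), co_ext fun l hl => ?_⟩
  rw [act_mul, act_mul, ← hy, ← hz, co_ev (show j < m by omega)]
  by_cases l0 : l = j
  · subst l0; rw [b0, if_pos rfl]
  rw [if_neg l0]
  by_cases l1 : l = j + 1
  · subst l1; exact b1
  rw [co_Blk c hg₃ (by omega)]
  by_cases l2 : l = j + 2
  · subst l2; exact a2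
  rw [hz, co_Blk c hg₂ (by omega), hyo l (by omega)]

end CfsgLib.SUPhanTwo
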