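/-
Covers of the special unitary group over the field with four elements by three-dimensional blocks.
-/
import Cfsg.Agent.Lib.SUAmalgam.Cover
import Cfsg.Agent.Lib.SUPhanTwo.Elems

set_option autoImplicit false
set_option linter.unusedSectionVars false

open Matrix

namespace CfsgLib.SUPhanTwo

open CfsgLib.ClassicalForms CfsgLib.SUAmalgam

variable {F : Type*} [Field F] [Fintype F] {m : ℕ}

/-- A group over the special unitary group with copies of the three-dimensional blocks. -/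
structure TCover (c : Conj F 2) (m : ℕ) (K : Type*) [Group K] where
  π : K →* SUg m F 2
  S : ℕ → Subgroup K
  T : ℕ → Subgroup K
  hm : 4 ≤ m
  map_S : ∀ i, i + 2 ≤ m → (S i).map π = Blk c m i 2
  map_T : ∀ i, i + 3 ≤ m → (T i).map π = Blk c m i 3
  S_le : ∀ i, i + 3 ≤ m → S i ≤ T i
  S_le' : ∀ i, i + 3 ≤ m → S (i + 1) ≤ T i
  commSS : ∀ i j, i + 2 ≤ j → j + 2 ≤ m → ∀ a ∈ S i, ∀ b ∈ S j, a * b = b * a
  commST : ∀ i j, i + 2 ≤ j → j + 3 ≤ m → ∀ a ∈ S i, ∀ b ∈ T j, a * b = b * a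
  commTS : ∀ i j, i + 3 ≤ j → j + 2 ≤ m → ∀ a ∈ T i, ∀ b ∈ S j, a * b = b * a
  commTT : ∀ i j, i + 3 ≤ j → j + 3 ≤ m → ∀ a ∈ T i, ∀ b ∈ T j, a * b = b * a
  inj₄ : ∀ i, i + 4 ≤ m → KerFree π (T i ⊔ T (i + 1))

variable {c : Conj F 2} {K : Type*} [Group K]

namespace TCover

variable (C : TCover c m K)

theorem injT {i : ℕ} (hi : i + 3 ≤ m) : KerFree C.π (C.T i) := by
  intro a ha
  by_cases h : i + 4 ≤ m
  · exact C.inj₄ i h a (Subgroup.mem_sup_left ha)
  · have := C.hm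
    obtain ⟨j, rfl⟩ : ∃ j, i = j + 1 := ⟨i - 1, by omega⟩
    exact C.inj₄ j (by omega) a (Subgroup.mem_sup_right ha)

theorem injS {i : ℕ} (hi : i + 2 ≤ m) : KerFree C.π (C.S i) := by
  intro a ha
  by_cases h : i + 3 ≤ m
  · exact C.injT h a (C.S_le i h ha)
  · have := C.hm
    obtain ⟨j, rfl⟩ : ∃ j, i = j + 1 := ⟨i - 1, by omega⟩
    exact C.injT (by omega) a (C.S_le' j (by omega) ha)

/-- The subgroup generated by the blocks from `k` on. -/
def Fam (k : ℕ) : Subgroup K :=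
  Subgroup.closure ({a | ∃ j, k ≤ j ∧ j + 2 ≤ m ∧ a ∈ C.S j} ∪ {a | ∃ j, k ≤ j ∧ j + 3 ≤ m ∧ a ∈ C.T j})

theorem S_le_Fam {k j : ℕ} (h : k ≤ j) (hj : j + 2 ≤ m) : C.S j ≤ C.Fam k := fun _ ha =>
  Subgroup.subset_closure (Or.inl ⟨j, h, hj, ha⟩)

theorem T_le_Fam {k j : ℕ} (h : k ≤ j) (hj : j + 3 ≤ m) : C.T j ≤ C.Fam k := fun _ ha =>
  Subgroup.subset_closure (Or.inr ⟨j, h, hj, ha⟩)

theorem Fam_le {k : ℕ} {H : Subgroup K} (h : ∀ j, k ≤ j → j + 2 ≤ m → C.S j ≤ H)
    (h' : ∀ j, k ≤ j → j + 3 ≤ m → C.T j ≤ H) : C.Fam k ≤ H :=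
  (Subgroup.closure_le _).2 (by
    rintro a (⟨j, hj, hj', ha⟩ | ⟨j, hj, hj', ha⟩)
    exacts [h j hj hj' ha, h' j hj hj' ha])

theorem Fam_anti {k k' : ℕ} (h : k' ≤ k) : C.Fam k ≤ C.Fam k' :=
  C.Fam_le (fun _ hj => C.S_le_Fam (h.trans hj)) (fun _ hj => C.T_le_Fam (h.trans hj))

theorem map_mem_S {i : ℕ} (hi : i + 2 ≤ m) {a : K} (ha : a ∈ C.S i) : C.π a ∈ Blk c m i 2 :=
  (C.map_S i hi).le ⟨a, ha, rfl⟩

theorem map_mem_T {i : ℕ} (hi : i + 3 ≤ m) {a : K} (ha : a ∈ C.T i) : C.π a ∈ Blk c m i 3 :=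
  (C.map_T i hi).le ⟨a, ha, rfl⟩

theorem map_mem_Fam {k : ℕ} {a : K} (ha : a ∈ C.Fam k) : C.π a ∈ Blk c m k m := by
  suffices h : C.Fam k ≤ (Blk c m k m).comap C.π from h ha
  exact C.Fam_le (fun j hj hj' b hb => Blk_mono c hj (by omega) (C.map_mem_S hj' hb))
    (fun j hj hj' b hb => Blk_mono c hj (by omega) (C.map_mem_T hj' hb))

/-- The induction statement. -/
structure Good (k : ℕ) : Prop where
  inj : KerFree C.π (C.Fam k)
  map : Blk c m k m ≤ (C.Fam k).map C.π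
  trans : k + 2 ≤ m → ∀ x : Fin m → F, Sup k x → SUAmalgam.T (q := 2) k x = 1 →
    ∃ g ∈ Blk c m k m, act g (ev m F k) = x

theorem good_top {k : ℕ} (h : m ≤ k + 1) : C.Good k where
  inj := fun a ha _ => Subgroup.mem_bot.1
    (C.Fam_le (H := ⊥) (fun j hj hj' => absurd hj' (by omega)) (fun j hj hj' => absurd hj' (by omega)) ha)
  map := by
    refine le_trans (fun g hg => ?_) bot_le
    rw [← Blk_one c k]
    exact fun l hl => hg l (by have := l.isLt; omega)
  trans := fun h' => absurd h' (by omega)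

theorem good_two {k : ℕ} (h : k + 2 = m) : C.Good k := by
  have hle : C.Fam k ≤ C.S k := C.Fam_le (fun j hj hj' => by rw [show j = k by omega])
    (fun j hj hj' => absurd hj' (by omega))
  refine ⟨fun a ha => C.injS h.le a (hle ha), fun g hg => ?_, fun _ x hx hT => ?_⟩
  · obtain ⟨a, ha, rfl⟩ := (C.map_S k h.le).ge (show g ∈ Blk c m k 2 from
      fun l hl => hg l (by have := l.isLt; omega))
    exact ⟨a, C.S_le_Fam le_rfl h.le ha, rfl⟩
  · rw [T_succ c k, T_succ c (k + 1), T_of_le c (by omega) x, add_zero] at hT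
    obtain ⟨g, hg, h0, h1⟩ := move_frame c h.le (ev m F k) (a := co x k) (b := co x (k + 1))
      (by rw [co_ev (by omega), co_ev (by omega)]; simp)
      (by rw [hT, co_ev (by omega), co_ev (by omega)]; simp)
    refine ⟨g, fun l hl => hg l (by omega), co_ext fun j hj => ?_⟩
    rcases lt_or_ge j k with hjk | hjk
    · rw [co_Blk c hg (Or.inl hjk), co_ev (by omega), if_neg (by omega), hx j hjk]
    · rcases eq_or_lt_of_le hjk with rfl | hjk'
      · exact h0
      · rw [show j = k + 1 by omega]; exact h1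

variable (hF : Nat.card F = 2 ^ 2)
include hF

/-- Every unit vector is reached from the first one. -/
theorem reach {k : ℕ} (hk : k + 3 ≤ m) (hI : C.Good (k + 1)) (x : Fin m → F) (hx : Sup k x)
    (hT : SUAmalgam.T (q := 2) k x = 1) : ∃ a ∈ C.Fam k, act (C.π a) (ev m F k) = x := by
  obtain ⟨g₁, hg₁, h0⟩ := move_kill c hF hk x
  obtain ⟨a₁, ha₁, rfl⟩ := (C.map_T k hk).ge hg₁
  set y := act (C.π a₁) x with hy
  have hyT : SUAmalgam.T (q := 2) k y = 1 := by rw [hy, T_Blk c hg₁ (Or.inl le_rfl), hT]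
  rw [T_succ c k, h0, nm_zero, zero_add] at hyT
  have hys : Sup (k + 1) y := fun j hj => by
    rcases Nat.lt_succ_iff_lt_or_eq.1 hj with h | rfl
    · rw [hy, co_Blk c hg₁ (Or.inl h), hx j h]
    · exact h0
  obtain ⟨g₂, hg₂, e₂⟩ := hI.trans (by omega) y hys hyT
  obtain ⟨a₂, ha₂, rfl⟩ := hI.map hg₂
  obtain ⟨g₃, hg₃, e0, e1⟩ := move_frame c (show k + 2 ≤ m by omega) (ev m F k) (a := 0) (b := 1)
    (by rw [co_ev (by omega), co_ev (by omega)]; simp)
    (by rw [co_ev (by omega), co_ev (by omega)]; simp)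
  obtain ⟨a₃, ha₃, rfl⟩ := (C.map_S k (by omega)).ge hg₃
  have hsw : act (C.π a₃) (ev m F k) = ev m F (k + 1) := co_ext fun j _ => by
    rw [co_ev (show k + 1 < m by omega)]
    by_cases h0 : j = k
    · subst h0; rw [e0, if_neg (by omega)]
    by_cases h1 : j = k + 1
    · subst h1; rw [e1, if_pos rfl]
    rw [co_Blk c hg₃ (by omega), co_ev (show k < m by omega), if_neg h0, if_neg h1]
  refine ⟨a₁⁻¹ * a₂ * a₃, mul_mem (mul_mem (inv_mem (C.T_le_Fam le_rfl hk ha₁))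
    (C.Fam_anti (Nat.le_succ k) ha₂)) (C.S_le_Fam le_rfl (by omega) ha₃), ?_⟩
  rw [map_mul, map_mul, map_inv, act_mul, act_mul, hsw, e₂, hy, act_inv_act]

/-- The map property follows from the next level. -/
theorem map_of_reach {k : ℕ} (hk : k + 3 ≤ m) (hI : C.Good (k + 1)) :
    Blk c m k m ≤ (C.Fam k).map C.π := fun g hg => by
  obtain ⟨a, ha, hae⟩ := C.reach hF hk hI (act g (ev m F k))
    (Sup.act c hg le_rfl (fun j hj => by rw [co_ev (show k < m by omega), if_neg (by omega)]))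
    (by rw [T_Blk c hg (Or.inl le_rfl), T_ev c (show k < m by omega), if_pos le_rfl])
  have hB : (C.π a)⁻¹ * g ∈ Blk c m (k + 1) m := fun l hl => by
    by_cases hlk : (l : ℕ) = k
    · rw [← ev_eq_single, hlk, act_mul, ← hae, act_inv_act]
    · exact mul_mem (inv_mem (C.map_mem_Fam ha)) hg l (by omega)
  obtain ⟨b, hb, he⟩ := hI.map hB
  exact ⟨a * b, mul_mem ha (C.Fam_anti (Nat.le_succ _) hb), by rw [map_mul, he, mul_inv_cancel_left]⟩

theorem good_of_inj {k : ℕ} (hk : k + 3 ≤ m) (hI : C.Good (k + 1)) (h : KerFree C.π (C.Fam k)) :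
    C.Good k :=
  ⟨h, C.map_of_reach hF hk hI, fun _ x hx hT => by
    obtain ⟨a, ha, hae⟩ := C.reach hF hk hI x hx hT
    exact ⟨_, C.map_mem_Fam ha, hae⟩⟩

theorem good_three {k : ℕ} (h : k + 3 = m) : C.Good k := by
  have hI : C.Good (k + 1) := C.good_two (by omega)
  refine C.good_of_inj hF h.le hI fun a ha => C.injT h.le a (C.Fam_le (fun j hj hj' => ?_)
    (fun j hj hj' => by rw [show j = k by omega]) ha)
  rcases (show j = k ∨ j = k + 1 by omega) with rfl | rfl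
  · exact C.S_le _ h.le
  · exact C.S_le' _ h.le

theorem good_four {k : ℕ} (h : k + 4 = m) : C.Good k := by
  have hI : C.Good (k + 1) := C.good_three hF (by omega)
  refine C.good_of_inj hF (by omega) hI fun a ha => C.inj₄ k h.le a (C.Fam_le (fun j hj hj' => ?_)
    (fun j hj hj' => ?_) ha)
  · rcases (show j = k ∨ j = k + 1 ∨ j = k + 1 + 1 by omega) with rfl | rfl | rfl
    · exact (C.S_le _ (by omega)).trans le_sup_left
    · exact (C.S_le' _ (by omega)).trans le_sup_left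
    · exact (C.S_le' _ (by omega)).trans le_sup_right
  · rcases (show j = k ∨ j = k + 1 by omega) with rfl | rfl
    · exact le_sup_left
    · exact le_sup_right

end TCover

end CfsgLib.SUPhanTwo
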