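/-
The chart on unit vectors with vanishing first coordinate.
-/
import Cfsg.Agent.Lib.SUPhanTwo.Cover

set_option autoImplicit false
set_option linter.unusedSectionVars false

open Matrix

namespace CfsgLib.SUPhanTwo

open CfsgLib.ClassicalForms CfsgLib.SUAmalgam

variable {F : Type*} [Field F] [Fintype F] {m : ℕ} {c : Conj F 2} {K : Type*} [Group K]

theorem nm_one_one : nm c (1 : F) = 1 := nm_one c

/-- The swap of two consecutive coordinates. -/
theorem co_swap (hF : Nat.card F = 2 ^ 2) {j : ℕ} (hj : j + 2 ≤ m) (x : Fin m → F) :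
    co (act (emb c j hj (ad c 1 (nm_one c))) x) j = co x (j + 1) ∧
      co (act (emb c j hj (ad c 1 (nm_one c))) x) (j + 1) = co x j := by
  obtain ⟨h0, h1, -⟩ := act_two_coord c j hj (ad c 1 (nm_one c)) x
  constructor
  · rw [co_mk _ (show j < m by omega), h0, co_mk x (show j + 1 < m by omega)]
    simp [SUAmalgam.act, mat_ad c hF, Matrix.mulVec, dotProduct, Fin.sum_univ_two]
  · rw [co_mk _ (show j + 1 < m by omega), h1, co_mk x (show j < m by omega)]
    simp [SUAmalgam.act, mat_ad c hF, Matrix.mulVec, dotProduct, Fin.sum_univ_two]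

/-- The swap moves the coordinate vectors. -/
theorem act_swap_ev (hF : Nat.card F = 2 ^ 2) {j : ℕ} (hj : j + 2 ≤ m) :
    act (emb c j hj (ad c 1 (nm_one c))) (ev m F j) = ev m F (j + 1) ∧
      act (emb c j hj (ad c 1 (nm_one c))) (ev m F (j + 1)) = ev m F j := by
  have hb := emb_mem_Blk c j hj (ad c 1 (nm_one c))
  constructor <;> refine co_ext fun l _ => ?_
  · rw [co_ev (show j + 1 < m by omega)]
    by_cases h0 : l = j
    · subst h0; rw [(co_swap hF hj _).1, co_ev (show l < m by omega)]; simp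
    by_cases h1 : l = j + 1
    · subst h1; rw [(co_swap hF hj _).2, co_ev (show j < m by omega)]; simp
    rw [co_Blk c hb (by omega), co_ev (show j < m by omega), if_neg h0, if_neg h1]
  · rw [co_ev (show j < m by omega)]
    by_cases h0 : l = j
    · subst h0; rw [(co_swap hF hj _).1, co_ev (show l + 1 < m by omega)]; simp
    by_cases h1 : l = j + 1
    · subst h1; rw [(co_swap hF hj _).2, co_ev (show j + 1 < m by omega)]; simp
    rw [co_Blk c hb (by omega), co_ev (show j + 1 < m by omega), if_neg h1, if_neg h0]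

/-- One step of the induction. -/
structure Lvl {c : Conj F 2} {K : Type*} [Group K] (C : TCover c m K) where
  k : ℕ
  hk : k + 5 ≤ m
  hI : C.Good (k + 1)
  hI2 : C.Good (k + 2)
  hI3 : C.Good (k + 3)
  hF : Nat.card F = 2 ^ 2

namespace Lvl

variable {C : TCover c m K} (D : Lvl C)

/-- The first vector. -/
def e : Fin m → F := ev m F D.k

/-- The stabiliser. -/
def L : Subgroup K := C.Fam (D.k + 1)

/-- The part commuting with the first small block. -/
def L₂ : Subgroup K := C.Fam (D.k + 2)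

/-- The part commuting with the first block. -/
def M : Subgroup K := C.Fam (D.k + 3)

/-- The window. -/
def J : Subgroup K := C.T D.k ⊔ C.T (D.k + 1)

theorem T₁_le_L : C.T (D.k + 1) ≤ D.L := C.T_le_Fam le_rfl (by have := D.hk; omega)

theorem S₁_le_L : C.S (D.k + 1) ≤ D.L := C.S_le_Fam le_rfl (by have := D.hk; omega)

theorem S₀_le_T₀ : C.S D.k ≤ C.T D.k := C.S_le _ (by have := D.hk; omega)

theorem S₁_le_T₀ : C.S (D.k + 1) ≤ C.T D.k := C.S_le' _ (by have := D.hk; omega)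

theorem T₀_le_J : C.T D.k ≤ D.J := le_sup_left

theorem T₁_le_J : C.T (D.k + 1) ≤ D.J := le_sup_right

theorem L₂_le_L : D.L₂ ≤ D.L := C.Fam_anti (by omega)

theorem M_le_L₂ : D.M ≤ D.L₂ := C.Fam_anti (by omega)

theorem π_L {a : K} (ha : a ∈ D.L) : C.π a ∈ Blk c m (D.k + 1) m := C.map_mem_Fam ha

theorem π_L₂ {a : K} (ha : a ∈ D.L₂) : C.π a ∈ Blk c m (D.k + 2) m := C.map_mem_Fam ha

theorem π_S₀ {a : K} (ha : a ∈ C.S D.k) : C.π a ∈ Blk c m D.k 2 :=
  C.map_mem_S (by have := D.hk; omega) ha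

theorem π_T₀ {a : K} (ha : a ∈ C.T D.k) : C.π a ∈ Blk c m D.k 3 :=
  C.map_mem_T (by have := D.hk; omega) ha

theorem π_T₁ {a : K} (ha : a ∈ C.T (D.k + 1)) : C.π a ∈ Blk c m (D.k + 1) 3 :=
  C.map_mem_T (by have := D.hk; omega) ha

theorem π_J {a : K} (ha : a ∈ D.J) : C.π a ∈ Blk c m D.k 4 := by
  suffices h : D.J ≤ (Blk c m D.k 4).comap C.π from h ha
  exact sup_le (fun b hb => Blk_mono c le_rfl (by omega) (D.π_T₀ hb))
    (fun b hb => Blk_mono c (by omega) (by omega) (D.π_T₁ hb))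

theorem inj_J : KerFree C.π D.J := C.inj₄ _ (by have := D.hk; omega)

theorem exists_S {j : ℕ} (hj : j + 2 ≤ m) {g : SUg m F 2} (hg : g ∈ Blk c m j 2) :
    ∃ a ∈ C.S j, C.π a = g :=
  (C.map_S j hj).ge hg

theorem exists_T {j : ℕ} (hj : j + 3 ≤ m) {g : SUg m F 2} (hg : g ∈ Blk c m j 3) :
    ∃ a ∈ C.T j, C.π a = g :=
  (C.map_T j hj).ge hg

theorem comm_S₀_L₂ {a b : K} (ha : a ∈ C.S D.k) (hb : b ∈ D.L₂) : a * b = b * a := by
  suffices D.L₂ ≤ Subgroup.centralizer ({a} : Set K) from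
    Subgroup.mem_centralizer_iff.1 (this hb) a rfl
  refine C.Fam_le (fun j hj hj' b hb => Subgroup.mem_centralizer_iff.2 ?_)
    (fun j hj hj' b hb => Subgroup.mem_centralizer_iff.2 ?_)
  · rintro _ rfl; exact C.commSS D.k j hj hj' _ ha b hb
  · rintro _ rfl; exact C.commST D.k j hj hj' _ ha b hb

theorem comm_T₀_M {a b : K} (ha : a ∈ C.T D.k) (hb : b ∈ D.M) : a * b = b * a := by
  suffices D.M ≤ Subgroup.centralizer ({a} : Set K) from
    Subgroup.mem_centralizer_iff.1 (this hb) a rfl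
  refine C.Fam_le (fun j hj hj' b hb => Subgroup.mem_centralizer_iff.2 ?_)
    (fun j hj hj' b hb => Subgroup.mem_centralizer_iff.2 ?_)
  · rintro _ rfl; exact C.commTS D.k j hj hj' _ ha b hb
  · rintro _ rfl; exact C.commTT D.k j hj hj' _ ha b hb

theorem J_stab {a : K} (ha : a ∈ D.J) (h : act (C.π a) D.e = D.e) : a ∈ D.L := by
  obtain ⟨b, hb, e⟩ := exists_T (C := C) (show D.k + 1 + 3 ≤ m by have := D.hk; omega)
    (Blk_step c (r := 3) (D.π_J ha) h)
  rw [← D.inj_J.eq (D.T₁_le_J hb) ha e]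
  exact D.T₁_le_L hb

theorem ap_L_e {a : K} (ha : a ∈ D.L) : act (C.π a) D.e = D.e :=
  act_ev_Blk c (D.π_L ha) (Or.inl (Nat.lt_succ_self _))

/-- The vectors of norm one beyond the induction level. -/
def Vec₁ (x : Fin m → F) : Prop := Sup D.k x ∧ SUAmalgam.T (q := 2) D.k x = 1

theorem vec_act {a : K} {i r : ℕ} (ha : C.π a ∈ Blk c m i r) (hi : D.k ≤ i) {x : Fin m → F}
    (hx : D.Vec₁ x) : D.Vec₁ (act (C.π a) x) :=
  ⟨Sup.act c ha hi hx.1, by rw [T_Blk c ha (Or.inl hi)]; exact hx.2⟩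

theorem vec_e : D.Vec₁ D.e := by
  have := D.hk
  refine ⟨fun j hj => ?_, ?_⟩
  · rw [e, co_ev (show D.k < m by omega), if_neg (by omega)]
  · rw [e, T_ev c (show D.k < m by omega), if_pos le_rfl]

/-- The vectors in the chart. -/
def Nice (x : Fin m → F) : Prop := co x D.k = 0

theorem nice_L {a : K} (ha : a ∈ D.L) {x : Fin m → F} :
    D.Nice (act (C.π a) x) ↔ D.Nice x := by
  rw [Nice, Nice, co_Blk c (D.π_L ha) (Or.inl (Nat.lt_succ_self _))]

/-- The base coset. -/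
def base : K ⧸ D.L := QuotientGroup.mk 1

theorem smul_base (a : K) : a • D.base = (QuotientGroup.mk a : K ⧸ D.L) := by
  show (QuotientGroup.mk (a * 1) : K ⧸ D.L) = _
  rw [mul_one]

theorem smul_base_eq {a b : K} (h : a⁻¹ * b ∈ D.L) : a • D.base = b • D.base := by
  rw [D.smul_base, D.smul_base, QuotientGroup.eq]; exact h

/-- The swap of the first two coordinates. -/
noncomputable def w₀ : K :=
  (exists_S (C := C) (show D.k + 2 ≤ m by have := D.hk; omega)
    (emb_mem_Blk c D.k (show D.k + 2 ≤ m by have := D.hk; omega) (ad c 1 (nm_one c)))).choose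

theorem w₀_mem : D.w₀ ∈ C.S D.k :=
  (exists_S (C := C) (show D.k + 2 ≤ m by have := D.hk; omega)
    (emb_mem_Blk c D.k (show D.k + 2 ≤ m by have := D.hk; omega) (ad c 1 (nm_one c)))).choose_spec.1

theorem π_w₀ : C.π D.w₀ =
    emb c D.k (show D.k + 2 ≤ m by have := D.hk; omega) (ad c 1 (nm_one c)) :=
  (exists_S (C := C) (show D.k + 2 ≤ m by have := D.hk; omega)
    (emb_mem_Blk c D.k (show D.k + 2 ≤ m by have := D.hk; omega) (ad c 1 (nm_one c)))).choose_spec.2

theorem act_w₀ : act (C.π D.w₀) D.e = ev m F (D.k + 1) := by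
  rw [π_w₀]; exact (act_swap_ev D.hF _).1

/-- A chart value at a vector. -/
def Ch (x : Fin m → F) (p : K ⧸ D.L) : Prop :=
  ∃ l ∈ D.L, act (C.π l) (ev m F (D.k + 1)) = x ∧ p = (l * D.w₀) • D.base

theorem ch_exists {x : Fin m → F} (hx : D.Vec₁ x) (h : D.Nice x) : ∃ p, D.Ch x p := by
  have := D.hk
  have hT := hx.2
  rw [T_succ c D.k, show co x D.k = 0 from h, nm_zero, zero_add] at hT
  obtain ⟨g, hg, hge⟩ := D.hI.trans (by omega) x (fun j hj => by
    rcases Nat.lt_succ_iff_lt_or_eq.1 hj with hjk | rfl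
    · exact hx.1 j hjk
    · exact h) hT
  obtain ⟨l, hl, rfl⟩ := D.hI.map hg
  exact ⟨_, l, hl, hge, rfl⟩

theorem ch_unique {x : Fin m → F} {p p' : K ⧸ D.L} (hp : D.Ch x p) (hp' : D.Ch x p') : p = p' := by
  obtain ⟨l, hl, hle, rfl⟩ := hp
  obtain ⟨l', hl', hle', rfl⟩ := hp'
  have hrL : l'⁻¹ * l ∈ D.L := mul_mem (inv_mem hl') hl
  have hB : C.π (l'⁻¹ * l) ∈ Blk c m (D.k + 2) m := fun j hj => by
    by_cases h1 : (j : ℕ) = D.k + 1
    · rw [← ev_eq_single, h1, map_mul, map_inv, act_mul, hle, ← hle', act_inv_act]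
    · exact D.π_L hrL j (by omega)
  obtain ⟨r, hr, e⟩ := D.hI2.map hB
  rw [D.hI.inj.eq (D.L₂_le_L hr) hrL e] at hr
  symm
  refine D.smul_base_eq ?_
  rw [show (l' * D.w₀)⁻¹ * (l * D.w₀) = D.w₀⁻¹ * ((l'⁻¹ * l) * D.w₀) by group,
    ← D.comm_S₀_L₂ D.w₀_mem hr, inv_mul_cancel_left]
  exact hrL

open Classical in
/-- The chart. -/
noncomputable def kG (x : Fin m → F) : K ⧸ D.L :=
  if h : ∃ p, D.Ch x p then h.choose else D.base

theorem kG_eq {x : Fin m → F} {p : K ⧸ D.L} (hp : D.Ch x p) : D.kG x = p := by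
  have hex : ∃ p, D.Ch x p := ⟨p, hp⟩
  rw [kG, dif_pos hex]
  exact D.ch_unique hex.choose_spec hp

/-- The chart commutes with an element at a vector. -/
def OkG (a : K) (x : Fin m → F) : Prop := a • D.kG x = D.kG (act (C.π a) x)

variable {D}

theorem OkG.mul {a b : K} {x : Fin m → F} (hb : D.OkG b x) (ha : D.OkG a (act (C.π b) x)) :
    D.OkG (a * b) x := by
  rw [OkG, mul_smul, hb, ha, map_mul, act_mul]

theorem OkG.inv {a : K} {x : Fin m → F} (h : D.OkG a x) : D.OkG a⁻¹ (act (C.π a) x) := by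
  rw [OkG, inv_smul_eq_iff, map_inv, act_inv_act, ← h]

variable (D)

theorem okG_L {a : K} (ha : a ∈ D.L) {x : Fin m → F} (hx : D.Vec₁ x) (h : D.Nice x) :
    D.OkG a x := by
  obtain ⟨p, hp⟩ := D.ch_exists hx h
  rw [OkG, D.kG_eq hp]
  obtain ⟨l, hl, hle, rfl⟩ := hp
  refine (D.kG_eq ⟨a * l, mul_mem ha hl, ?_, ?_⟩).symm
  · rw [map_mul, act_mul, hle]
  · rw [← mul_smul, mul_assoc]

theorem kG_J {a : K} (ha : a ∈ D.J) (h : D.Nice (act (C.π a) D.e)) :
    D.kG (act (C.π a) D.e) = a • D.base := by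
  have := D.hk
  set x := act (C.π a) D.e with hxdef
  have hx : D.Vec₁ x := D.vec_act (D.π_J ha) le_rfl D.vec_e
  have hT := hx.2
  rw [T_succ c D.k, show co x D.k = 0 from h, nm_zero, zero_add] at hT
  obtain ⟨g, hg, hge⟩ := trans_three c D.hF (show D.k + 1 + 3 ≤ m by omega) x (fun l hl => by
    rcases hl with hl | hl
    · rcases Nat.lt_succ_iff_lt_or_eq.1 hl with hl | rfl
      · exact hx.1 l hl
      · exact h
    · rw [hxdef, co_Blk c (D.π_J ha) (Or.inr (by omega)), e, co_ev (show D.k < m by omega),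
        if_neg (by omega)]) hT
  obtain ⟨l, hl, rfl⟩ := exists_T (C := C) (show D.k + 1 + 3 ≤ m by omega) hg
  have hle : act (C.π l⁻¹) (ev m F (D.k + 1)) = x := by rw [← hge, map_inv, act_inv_act]
  refine D.kG_eq ⟨l⁻¹, inv_mem (D.T₁_le_L hl), hle, D.smul_base_eq ?_⟩
  refine D.J_stab (mul_mem (inv_mem ha)
    (mul_mem (inv_mem (D.T₁_le_J hl)) (D.T₀_le_J (D.S₀_le_T₀ D.w₀_mem)))) ?_
  rw [map_mul, map_mul, map_inv C.π a, act_mul, act_mul, D.act_w₀, hle, hxdef, act_inv_act]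

end Lvl

end CfsgLib.SUPhanTwo
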