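/-
The equivariant section on unit vectors.
-/
import Cfsg.Agent.Lib.SUPhanTwo.Chart

set_option autoImplicit false
set_option linter.unusedSectionVars false

open Matrix

namespace CfsgLib.SUPhanTwo

open CfsgLib.ClassicalForms CfsgLib.SUAmalgam

variable {F : Type*} [Field F] [Fintype F] {m : ℕ} {c : Conj F 2} {K : Type*} [Group K]

theorem mat_inv (c : Conj F 2) (p : SUg m F 2) (i l : Fin m) : mat p⁻¹ i l = c.σ (mat p l i) := by
  rw [← act_single, ← act_single, ← c.single_right (act p⁻¹ (Pi.single l 1)) i, ← herm_act p,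
    act_act_inv, c.single_left]

/-- A vector with anisotropic tail is moved to one supported at the first tail coordinate. -/
theorem flatten_one {C : TCover c m K} {j : ℕ} (hG : C.Good j) (x : Fin m → F)
    (h : T (q := 2) j x ≠ 0) :
    ∃ g ∈ Blk c m j m, ∀ l, j + 1 ≤ l → co (act g x) l = 0 := by
  by_cases hj : j + 2 ≤ m
  swap
  · exact ⟨1, one_mem _, fun l hl => co_of_le _ (by omega)⟩
  obtain ⟨b, hb⟩ := exists_nm c (k := T (q := 2) j x) (c.herm_self _)
  have hb0 : b ≠ 0 := fun e => h (by rw [← hb, e, nm_zero])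
  have hs : Sup j (b⁻¹ • cut j x) := fun l hl => by
    rw [co_smul, co_mk _ (show l < m by omega)]
    simp [cut, hl]
  obtain ⟨g, hg, hge⟩ := hG.trans hj _ hs (by
    rw [T_eq_herm hs, c.smul_left, c.smul_right, ← mul_assoc,
      show b⁻¹ * c.σ b⁻¹ = (nm c b)⁻¹ by rw [nm, map_inv₀, mul_inv]]
    show (nm c b)⁻¹ * T (q := 2) j x = 1
    rw [← hb, inv_mul_cancel₀ (fun e => hb0 ((nm_eq_zero c).1 e))])
  refine ⟨g⁻¹, inv_mem hg, fun l hl => ?_⟩
  have h2 : cut j (act g⁻¹ x) = b • ev m F j := by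
    rw [cut_Blk c (inv_mem hg) le_rfl,
      show cut j x = b • act g (ev m F j) by rw [hge, smul_smul, mul_inv_cancel₀ hb0, one_smul],
      act_smul, act_inv_act]
  by_cases hlm : l < m
  · have h3 := congrArg (fun z => co z l) h2
    simp only [co_smul, co_ev (show j < m by omega), if_neg (show ¬ l = j by omega), mul_zero] at h3
    rw [co_mk _ hlm] at h3 ⊢
    simpa [cut, show ¬ l < j by omega] using h3
  · exact co_of_le _ (by omega)

/-- A nonzero tail is moved to one with nonzero leading coordinate. -/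
theorem exists_lead (j : ℕ) (x : Fin m → F) {l : ℕ} (hjl : j ≤ l) (hl : co x l ≠ 0) :
    ∃ g ∈ Blk c m j m, co (act g x) j ≠ 0 := by
  suffices ∀ d j, j + d = l → ∃ g ∈ Blk c m j m, co (act g x) j ≠ 0 from this (l - j) j (by omega)
  intro d
  induction d with
  | zero => intro j h; subst h; exact ⟨1, one_mem _, by rwa [act_one]⟩
  | succ d ih =>
    intro j h
    have hlm : l < m := by
      by_contra hlm
      exact hl (co_of_le _ (not_lt.1 hlm))
    obtain ⟨g, hg, hn⟩ := ih (j + 1) (by omega)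
    obtain ⟨g', hg', hn'⟩ := move_norm c (show j + 2 ≤ m by omega) (act g x) (k := 1) (Or.inr hn)
      (map_one _) (fun _ => one_ne_zero)
    refine ⟨g' * g, mul_mem (fun k hk => hg' k (by have := k.isLt; omega))
      (fun k hk => hg k (by have := k.isLt; omega)), fun e => ?_⟩
    rw [act_mul] at e
    rw [e, nm_zero] at hn'
    exact zero_ne_one hn'

namespace Lvl

variable {C : TCover c m K} (D : Lvl C)

/-- Elements of the window commute with the chart at vectors in the window. -/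
theorem okG_window {a : K} (ha : a ∈ D.J) {x : Fin m → F} (hx : D.Vec₁ x)
    (h4 : ∀ j, D.k + 4 ≤ j → co x j = 0) (h : D.Nice x) (h' : D.Nice (act (C.π a) x)) :
    D.OkG a x := by
  have := D.hk
  obtain ⟨b, hb, hbe⟩ : ∃ b ∈ D.J, act (C.π b) D.e = x := by
    have hT := hx.2
    rw [T_succ c D.k, show co x D.k = 0 from h, nm_zero, zero_add] at hT
    obtain ⟨g, hg, hge⟩ := trans_three c D.hF (show D.k + 1 + 3 ≤ m by omega) x (fun l hl => by
      rcases hl with hl | hl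
      · rcases Nat.lt_succ_iff_lt_or_eq.1 hl with hl | rfl
        · exact hx.1 l hl
        · exact h
      · exact h4 l (by omega)) hT
    obtain ⟨l, hl, rfl⟩ := exists_T (C := C) (show D.k + 1 + 3 ≤ m by omega) hg
    refine ⟨l⁻¹ * D.w₀, mul_mem (inv_mem (D.T₁_le_J hl)) (D.T₀_le_J (D.S₀_le_T₀ D.w₀_mem)), ?_⟩
    rw [map_mul, map_inv, act_mul, D.act_w₀, ← hge, act_inv_act]
  subst hbe
  rw [← act_mul, ← map_mul] at h'
  rw [OkG, D.kG_J hb h, ← act_mul, ← map_mul, D.kG_J (mul_mem ha hb) h', ← mul_smul]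

/-- Conjugating away a commuting element of the stabiliser. -/
theorem transfer {s r : K} (hs : s ∈ C.T D.k) (hr : r ∈ D.L) (hc : s * r = r * s) {x : Fin m → F}
    (hx : D.Vec₁ x) (h : D.Nice x) (h' : D.Nice (act (C.π s) x))
    (hok : D.OkG s (act (C.π r) x)) : D.OkG s x := by
  have hsr : r⁻¹ * (s * r) = s := by rw [hc, inv_mul_cancel_left]
  have hsx : act (C.π s) (act (C.π r) x) = act (C.π r) (act (C.π s) x) := by
    rw [← act_mul, ← act_mul, ← map_mul, ← map_mul, hc]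
  rw [← hsr]
  refine OkG.mul (OkG.mul (D.okG_L hr hx h) hok) ?_
  rw [map_mul, act_mul, hsx]
  exact D.okG_L (inv_mem hr)
    (D.vec_act (D.π_L hr) (by omega) (D.vec_act (D.π_T₀ hs) le_rfl hx)) ((D.nice_L hr).2 h')

/-- The window form of `transfer`. -/
theorem okG_flat {s r : K} (hs : s ∈ C.T D.k) (hr : r ∈ D.L) (hc : s * r = r * s) {x : Fin m → F}
    (hx : D.Vec₁ x) (h : D.Nice x) (h' : D.Nice (act (C.π s) x))
    (h4 : ∀ j, D.k + 4 ≤ j → co (act (C.π r) x) j = 0) : D.OkG s x := by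
  refine D.transfer hs hr hc hx h h' (D.okG_window (D.T₀_le_J hs)
    (D.vec_act (D.π_L hr) (by omega) hx) h4 ((D.nice_L hr).2 h) ?_)
  rw [← act_mul, ← map_mul, hc, map_mul, act_mul]
  exact (D.nice_L hr).2 h'

theorem exists_flat (x : Fin m → F) :
    ∃ r ∈ D.L₂, ∀ j, D.k + 4 ≤ j → co (act (C.π r) x) j = 0 := by
  suffices h : ∃ g ∈ Blk c m (D.k + 2) m, ∀ j, D.k + 4 ≤ j → co (act g x) j = 0 by
    obtain ⟨g, hg, hh⟩ := h
    obtain ⟨r, hr, rfl⟩ := D.hI2.map hg
    exact ⟨r, hr, hh⟩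
  by_cases hz : ∀ j, D.k + 4 ≤ j → co x j = 0
  · exact ⟨1, one_mem _, by simpa using hz⟩
  by_cases h : T (q := 2) (D.k + 2) x = 0
  swap
  · obtain ⟨g, hg, hh⟩ := flatten_one D.hI2 x h
    exact ⟨g, hg, fun j hj => hh j (by omega)⟩
  simp only [not_forall] at hz
  obtain ⟨l, hl, hxl⟩ := hz
  obtain ⟨g, hg, hn⟩ := exists_lead (c := c) (D.k + 2) x (show D.k + 2 ≤ l by omega) hxl
  have h' : T (q := 2) (D.k + 2 + 1) (act g x) ≠ 0 := by
    intro e
    have h1 := T_Blk c hg (Or.inl le_rfl) x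
    rw [T_succ c (D.k + 2) (act g x), e, add_zero, h] at h1
    exact hn ((nm_eq_zero c).1 h1)
  obtain ⟨g', hg', hh⟩ := flatten_one D.hI3 (act g x) h'
  exact ⟨g' * g, mul_mem (fun k hk => hg' k (by have := k.isLt; omega)) hg,
    fun j hj => by rw [act_mul]; exact hh j (by omega)⟩

theorem okG_S₀ {s : K} (hs : s ∈ C.S D.k) {x : Fin m → F} (hx : D.Vec₁ x) (h : D.Nice x)
    (h' : D.Nice (act (C.π s) x)) : D.OkG s x := by
  obtain ⟨r, hr, hflat⟩ := D.exists_flat x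
  exact D.okG_flat (D.S₀_le_T₀ hs) (D.L₂_le_L hr) (D.comm_S₀_L₂ hs hr) hx h h' hflat

theorem okG_T₀ {a : K} (ha : a ∈ C.T D.k) {x : Fin m → F} (hx : D.Vec₁ x) (h : D.Nice x)
    (h' : D.Nice (act (C.π a) x)) : D.OkG a x := by
  have := D.hk
  by_cases hT3 : T (q := 2) (D.k + 3) x = 0
  swap
  · obtain ⟨g, hg, hh⟩ := flatten_one D.hI3 x hT3
    obtain ⟨r, hr, rfl⟩ := D.hI3.map hg
    exact D.okG_flat ha (D.L₂_le_L (D.M_le_L₂ hr)) (D.comm_T₀_M ha hr) hx h h'
      (fun j hj => hh j (by omega))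
  have hk1 : D.k + 1 + 2 ≤ m := by omega
  have key : ∀ y : Fin m → F, D.Vec₁ y → D.Nice y → T (q := 2) (D.k + 3) y = 0 →
      ∃ h ∈ C.S (D.k + 1), co (act (C.π h) y) (D.k + 1) = 1 ∧ co (act (C.π h) y) (D.k + 2) = 0 := by
    intro y hy hn h3
    have hT := hy.2
    rw [T_succ c D.k, show co y D.k = 0 from hn, nm_zero, zero_add, T_succ c (D.k + 1),
      T_succ c (D.k + 1 + 1), show T (q := 2) (D.k + 1 + 1 + 1) y = 0 from h3, add_zero] at hT
    obtain ⟨g, hg, e1, e2⟩ := move_frame c hk1 y (a := 1) (b := 0)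
      (by rw [hT]; exact one_ne_zero) (by rw [hT, nm_one, nm_zero, add_zero])
    obtain ⟨h, hh, rfl⟩ := exists_S (C := C) hk1 hg
    exact ⟨h, hh, e1, e2⟩
  obtain ⟨h₁, hh₁, x1, x2⟩ := key x hx h hT3
  set y := act (C.π a) x with hy
  have hyV : D.Vec₁ y := D.vec_act (D.π_T₀ ha) le_rfl hx
  obtain ⟨h₂, hh₂, y1, y2⟩ := key y hyV h' (by rw [hy, T_Blk c (D.π_T₀ ha) (Or.inr le_rfl), hT3])
  set z := act (C.π h₁) x with hz
  have hzV : D.Vec₁ z := D.vec_act (C.map_mem_S hk1 hh₁) (by omega) hx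
  have hzN : D.Nice z := (D.nice_L (D.S₁_le_L hh₁)).2 h
  obtain ⟨a₀, ha₀⟩ : ∃ a₀, a₀ = h₂ * a * h₁⁻¹ := ⟨_, rfl⟩
  have ha₀T : a₀ ∈ C.T D.k := ha₀ ▸ mul_mem (mul_mem (D.S₁_le_T₀ hh₂) ha) (inv_mem (D.S₁_le_T₀ hh₁))
  have hfix : act (C.π a₀) z = z := by
    rw [ha₀, map_mul, map_mul, map_inv, act_mul, act_mul, hz, act_inv_act, ← hy, ← hz]
    refine co_ext fun j _ => ?_
    by_cases j0 : j = D.k
    · subst j0
      rw [show co z D.k = 0 from hzN, co_Blk c (C.map_mem_S hk1 hh₂) (Or.inl (by omega))]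
      exact h'
    by_cases j1 : j = D.k + 1
    · subst j1; rw [y1, hz, x1]
    by_cases j2 : j = D.k + 2
    · subst j2; rw [y2, hz, x2]
    rw [co_Blk c (C.map_mem_S hk1 hh₂) (by omega), hy, co_Blk c (D.π_T₀ ha) (by omega), hz,
      co_Blk c (C.map_mem_S hk1 hh₁) (by omega)]
  -- the stabiliser of the middle vector in the first block
  have hB : C.π a₀ ∈ Blk c m D.k 3 := D.π_T₀ ha₀T
  have hfix1 : act (C.π a₀) (ev m F (D.k + 1)) = ev m F (D.k + 1) := by
    have hrest : act (C.π a₀) (z - ev m F (D.k + 1)) = z - ev m F (D.k + 1) :=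
      act_fix_of_support fun i => by
        by_cases hi : (i : ℕ) < D.k ∨ D.k + 3 ≤ (i : ℕ)
        · exact Or.inl (hB i hi)
        · refine Or.inr ?_
          rw [Pi.sub_apply, ← co_apply z i]
          simp only [ev]
          rcases (show (i : ℕ) = D.k ∨ (i : ℕ) = D.k + 1 ∨ (i : ℕ) = D.k + 2 by omega) with e | e | e <;>
            rw [e]
          · simp [show co z D.k = 0 from hzN]
          · simp [x1]
          · simp [x2]
    have h4 := hfix
    rw [show z = ev m F (D.k + 1) + (z - ev m F (D.k + 1)) by abel, act_add, hrest, add_left_inj] at h4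
    exact h4
  have hok₀ : D.OkG a₀ z := by
    set v := act (C.π a₀) D.e with hv
    have hv1 : co v (D.k + 1) = 0 := by
      have hh := herm_act (C.π a₀) D.e (ev m F (D.k + 1))
      rw [hfix1, show ev m F (D.k + 1) = Pi.single (⟨D.k + 1, by omega⟩ : Fin m) 1 from
        ev_eq_single ⟨D.k + 1, by omega⟩, c.single_right, c.single_right, ← hv] at hh
      rw [co_mk _ (show D.k + 1 < m by omega), hh]
      simp [e, ev]
    have hvo : ∀ j, j < D.k ∨ D.k + 3 ≤ j → co v j = 0 := fun j hj => by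
      rw [hv, co_Blk c hB hj, e, co_ev (show D.k < m by omega), if_neg (by omega)]
    have hvT : T (q := 2) D.k v = 1 := (D.vec_act hB le_rfl D.vec_e).2
    rw [T_succ c D.k, T_succ c (D.k + 1), hv1, nm_zero, zero_add, T_succ c (D.k + 1 + 1),
      T_zero_of c (j := D.k + 1 + 1 + 1) (fun l hl => hvo l (Or.inr (by omega))), add_zero] at hvT
    by_cases hv0 : co v D.k = 0
    · -- exchange the outer coordinates
      rw [hv0, nm_zero, zero_add] at hvT
      obtain ⟨s, hs, hse⟩ := exists_S (C := C) hk1 (emb_mem_Blk c (D.k + 1) hk1 (ad c 1 (nm_one c)))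
      obtain ⟨d, hd⟩ : ∃ d, d = D.w₀ * s * a₀ := ⟨_, rfl⟩
      have hdT : d ∈ C.T D.k :=
        hd ▸ mul_mem (mul_mem (D.S₀_le_T₀ D.w₀_mem) (D.S₁_le_T₀ hs)) ha₀T
      have hsz : act (C.π s) z ∈ {y | D.Vec₁ y ∧ D.Nice y} :=
        ⟨D.vec_act (C.map_mem_S hk1 hs) (by omega) hzV, (D.nice_L (D.S₁_le_L hs)).2 hzN⟩
      have hwz : D.Nice (act (C.π D.w₀) (act (C.π s) z)) := by
        rw [Nice, D.π_w₀, (co_swap D.hF _ _).1, hse, (co_swap D.hF _ _).1]
        exact hz ▸ x2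
      have hzz : co (act (C.π D.w₀) (act (C.π s) z)) (D.k + 1) = 0 := by
        rw [D.π_w₀, (co_swap D.hF _ _).2]; exact hsz.2
      have hde : co (act (C.π d) D.e) D.k = co v (D.k + 1 + 1) := by
        rw [hd, map_mul, map_mul, act_mul, act_mul, ← hv, D.π_w₀, (co_swap D.hF _ _).1, hse,
          (co_swap D.hF _ _).1]
      have hde2 : ∀ j, j ≠ D.k → co (act (C.π d) D.e) j = 0 := by
        intro j hj
        rw [hd, map_mul, map_mul, act_mul, act_mul, ← hv]
        by_cases j1 : j = D.k + 1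
        · subst j1
          rw [D.π_w₀, (co_swap D.hF _ _).2, co_Blk c (C.map_mem_S hk1 hs) (Or.inl (by omega))]
          exact hv0
        rw [D.π_w₀, co_Blk c (emb_mem_Blk c D.k _ _) (by omega)]
        by_cases j2 : j = D.k + 1 + 1
        · subst j2; rw [hse, (co_swap D.hF _ _).2, hv1]
        rw [co_Blk c (C.map_mem_S hk1 hs) (by omega), hvo j (by omega)]
      obtain ⟨g, hg, g0, g1⟩ := move_frame c (show D.k + 2 ≤ m by omega) D.e
        (a := co v (D.k + 1 + 1)) (b := 0)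
        (by rw [e, co_ev (show D.k < m by omega), co_ev (show D.k < m by omega)]; simp)
        (by rw [hvT, nm_zero, add_zero, e, co_ev (show D.k < m by omega), co_ev (show D.k < m by omega)]; simp)
      obtain ⟨d₀, hd₀, rfl⟩ := exists_S (C := C) (show D.k + 2 ≤ m by omega) hg
      have hfe : act (C.π d₀) D.e = act (C.π d) D.e := co_ext fun j _ => by
        by_cases j0 : j = D.k
        · subst j0; rw [g0, hde]
        rw [hde2 j j0]
        by_cases j1 : j = D.k + 1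
        · subst j1; exact g1
        rw [co_Blk c (D.π_S₀ hd₀) (by omega), e, co_ev (show D.k < m by omega), if_neg j0]
      have hh'L : d₀⁻¹ * d ∈ D.L := D.J_stab (D.T₀_le_J (mul_mem (inv_mem (D.S₀_le_T₀ hd₀)) hdT))
        (by rw [map_mul, map_inv, act_mul, ← hfe, act_inv_act])
      have hdz : act (C.π d) z = act (C.π D.w₀) (act (C.π s) z) := by
        rw [hd, map_mul, map_mul, act_mul, act_mul, hfix]
      have hdV : D.Vec₁ (act (C.π d) z) := D.vec_act (D.π_T₀ hdT) le_rfl hzV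
      have hdN : D.Nice (act (C.π d) z) := hdz ▸ hwz
      have hokd : D.OkG d z := by
        rw [show d = d₀ * (d₀⁻¹ * d) by group]
        refine OkG.mul (D.okG_L hh'L hzV hzN) (D.okG_S₀ hd₀ (D.vec_act (D.π_L hh'L) (by omega) hzV)
          ((D.nice_L hh'L).2 hzN) ?_)
        rw [← act_mul, ← map_mul, mul_inv_cancel_left]
        exact hdN
      rw [show a₀ = s⁻¹ * (D.w₀⁻¹ * d) by rw [hd]; group]
      have hwN : D.Nice (act (C.π D.w₀⁻¹) (act (C.π d) z)) := by
        rw [hdz, map_inv, act_inv_act]; exact hsz.2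
      refine OkG.mul (OkG.mul hokd (D.okG_S₀ (inv_mem D.w₀_mem) hdV hdN hwN)) ?_
      rw [map_mul, act_mul]
      exact D.okG_L (inv_mem (D.S₁_le_L hs)) (D.vec_act (D.π_S₀ (inv_mem D.w₀_mem)) le_rfl hdV) hwN
    · rw [nm_of_ne c D.hF hv0] at hvT
      have hv2 : co v (D.k + 1 + 1) = 0 := (nm_eq_zero c).1 (by linear_combination hvT)
      obtain ⟨g, hg, g0, g1⟩ := move_frame c (show D.k + 2 ≤ m by omega) D.e
        (a := co v D.k) (b := 0)
        (by rw [e, co_ev (show D.k < m by omega), co_ev (show D.k < m by omega)]; simp)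
        (by rw [nm_of_ne c D.hF hv0, nm_zero, add_zero, e, co_ev (show D.k < m by omega), co_ev (show D.k < m by omega)]; simp)
      obtain ⟨d₀, hd₀, rfl⟩ := exists_S (C := C) (show D.k + 2 ≤ m by omega) hg
      have hfe : act (C.π d₀) D.e = v := co_ext fun j _ => by
        by_cases j0 : j = D.k
        · subst j0; exact g0
        by_cases j1 : j = D.k + 1
        · subst j1; rw [g1, hv1]
        rw [co_Blk c (D.π_S₀ hd₀) (by omega), e, co_ev (show D.k < m by omega), if_neg j0]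
        by_cases j2 : j = D.k + 1 + 1
        · subst j2; exact hv2.symm
        exact (hvo j (by omega)).symm
      have hh'L : d₀⁻¹ * a₀ ∈ D.L := D.J_stab (D.T₀_le_J (mul_mem (inv_mem (D.S₀_le_T₀ hd₀)) ha₀T))
        (by rw [map_mul, map_inv, act_mul, ← hv, ← hfe, act_inv_act])
      rw [show a₀ = d₀ * (d₀⁻¹ * a₀) by group]
      refine OkG.mul (D.okG_L hh'L hzV hzN) (D.okG_S₀ hd₀ (D.vec_act (D.π_L hh'L) (by omega) hzV)
        ((D.nice_L hh'L).2 hzN) ?_)
      rw [← act_mul, ← map_mul, mul_inv_cancel_left, hfix]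
      exact hzN
  rw [show a = h₂⁻¹ * (a₀ * h₁) by rw [ha₀]; group]
  refine OkG.mul (OkG.mul (D.okG_L (D.S₁_le_L hh₁) hx h) hok₀) ?_
  rw [map_mul, act_mul, ← hz, hfix]
  exact D.okG_L (inv_mem (D.S₁_le_L hh₂)) hzV hzN

/-- An element of the first block moving a vector into the chart. -/
theorem exists_nice (x : Fin m → F) : ∃ t ∈ C.T D.k, D.Nice (act (C.π t) x) := by
  have := D.hk
  obtain ⟨g, hg, hn⟩ := move_kill c D.hF (show D.k + 3 ≤ m by omega) x
  obtain ⟨t, ht, rfl⟩ := exists_T (C := C) (show D.k + 3 ≤ m by omega) hg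
  exact ⟨t, ht, hn⟩

/-- The section. -/
noncomputable def kap (x : Fin m → F) : K ⧸ D.L :=
  (D.exists_nice x).choose⁻¹ • D.kG (act (C.π (D.exists_nice x).choose) x)

theorem kap_eq {x : Fin m → F} (hx : D.Vec₁ x) {s : K} (hs : s ∈ C.T D.k)
    (h : D.Nice (act (C.π s) x)) : D.kap x = s⁻¹ • D.kG (act (C.π s) x) := by
  obtain ⟨hs₁, h₁⟩ := (D.exists_nice x).choose_spec
  set s₁ := (D.exists_nice x).choose with hs₁def
  have hsx : act (C.π (s * s₁⁻¹)) (act (C.π s₁) x) = act (C.π s) x := by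
    rw [map_mul, map_inv, act_mul, act_inv_act]
  have := D.okG_T₀ (mul_mem hs (inv_mem hs₁)) (D.vec_act (D.π_T₀ hs₁) le_rfl hx) h₁
    (by rw [hsx]; exact h)
  rw [OkG, hsx] at this
  rw [kap, ← hs₁def, ← this, ← mul_smul, inv_mul_cancel_left]

theorem kap_nice {x : Fin m → F} (hx : D.Vec₁ x) (h : D.Nice x) : D.kap x = D.kG x := by
  rw [D.kap_eq hx (one_mem _) (by rwa [map_one, act_one]), map_one, act_one, inv_one, one_smul]

/-- The section commutes with an element at a vector. -/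
def Ok (a : K) (x : Fin m → F) : Prop := a • D.kap x = D.kap (act (C.π a) x)

variable {D}

theorem Ok.mul {a b : K} {x : Fin m → F} (hb : D.Ok b x) (ha : D.Ok a (act (C.π b) x)) :
    D.Ok (a * b) x := by
  rw [Ok, mul_smul, hb, ha, map_mul, act_mul]

theorem Ok.inv {a : K} {x : Fin m → F} (h : D.Ok a x) : D.Ok a⁻¹ (act (C.π a) x) := by
  rw [Ok, inv_smul_eq_iff, map_inv, act_inv_act, ← h]

variable (D)

theorem ok_T₀ {s : K} (hs : s ∈ C.T D.k) {x : Fin m → F} (hx : D.Vec₁ x) : D.Ok s x := by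
  obtain ⟨s₁, hs₁, h⟩ := D.exists_nice x
  have e : act (C.π (s₁ * s⁻¹)) (act (C.π s) x) = act (C.π s₁) x := by
    rw [map_mul, map_inv, act_mul, act_inv_act]
  rw [Ok, D.kap_eq hx hs₁ h, D.kap_eq (D.vec_act (D.π_T₀ hs) le_rfl hx) (mul_mem hs₁ (inv_mem hs))
    (by rw [e]; exact h), e, ← mul_smul, _root_.mul_inv_rev, inv_inv]

theorem ok_L_nice {a : K} (ha : a ∈ D.L) {x : Fin m → F} (hx : D.Vec₁ x) (h : D.Nice x) :
    D.Ok a x := by
  rw [Ok, D.kap_nice hx h, D.kap_nice (D.vec_act (D.π_L ha) (Nat.le_succ _) hx)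
    ((D.nice_L ha).2 h)]
  exact D.okG_L ha hx h

/-- An element of the stabiliser commuting with a block element that reaches the chart. -/
theorem ok_comm {a s : K} (ha : a ∈ D.L) (hs : s ∈ C.T D.k) (hc : s * a = a * s) {x : Fin m → F}
    (hx : D.Vec₁ x) (h : D.Nice (act (C.π s) x)) : D.Ok a x := by
  rw [show a = s⁻¹ * (a * s) by rw [← hc]; group]
  refine Ok.mul (Ok.mul (D.ok_T₀ hs hx) (D.ok_L_nice ha
    (D.vec_act (D.π_T₀ hs) le_rfl hx) h)) ?_
  have : C.π (a * s) ∈ Blk c m D.k m := by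
    rw [map_mul]
    exact mul_mem (fun l hl => D.π_L ha l (by have := l.isLt; omega))
      (Blk_mono c le_rfl (by have := D.hk; omega) (D.π_T₀ hs))
  exact D.ok_T₀ (inv_mem hs) (D.vec_act this le_rfl hx)

theorem ok_M {a : K} (ha : a ∈ D.M) {x : Fin m → F} (hx : D.Vec₁ x) : D.Ok a x := by
  obtain ⟨s, hs, h⟩ := D.exists_nice x
  exact D.ok_comm (D.L₂_le_L (D.M_le_L₂ ha)) hs (D.comm_T₀_M hs ha) hx h

/-- An element of the second block with suitable last row. -/
theorem ok_good {a : K} (ha : a ∈ C.T (D.k + 1)) {g : SUg 3 F 2}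
    (hg : C.π a = emb c (D.k + 1) (show D.k + 1 + 3 ≤ m by have := D.hk; omega) g)
    (g0 : mat g 2 0 ≠ 0) (g1 : mat g 2 1 ≠ 0) {x : Fin m → F} (hx : D.Vec₁ x)
    (hne : mat g 2 0 * co x (D.k + 1) + mat g 2 1 * co x (D.k + 2) ≠ 0) : D.Ok a x := by
  have := D.hk
  have hk3 : D.k + 3 ≤ m := by omega
  by_cases hn : D.Nice x
  · exact D.ok_L_nice (D.T₁_le_L ha) hx hn
  have hx0 : co x D.k ≠ 0 := hn
  obtain ⟨w, hw⟩ := exists_w D.hF
  obtain ⟨ν, hν⟩ : ∃ ν, ν = c.σ (mat g 2 0 / mat g 2 1) := ⟨_, rfl⟩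
  have hν' : ν * mat g 2 0 = mat g 2 1 := by
    have e0 := nm_of_ne c D.hF g0
    have e1 := nm_of_ne c D.hF g1
    simp only [nm] at e0 e1
    have hs : c.σ (mat g 2 1) ≠ 0 := fun e => g1 (c.eq_zero e)
    rw [hν, map_div₀, div_mul_eq_mul_div, div_eq_iff hs]
    linear_combination e0 - e1
  have hν0 : ν ≠ 0 := fun e => g1 (by rw [← hν', e, zero_mul])
  have hs12 : co x (D.k + 1) + ν * co x (D.k + 2) ≠ 0 := fun e => hne (by
    rw [← hν']; linear_combination mat g 2 0 * e)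
  obtain ⟨B, B0, B1, B2⟩ := exists_B c D.hF hw
    (r₀ := (co x (D.k + 1) + ν * co x (D.k + 2)) / co x D.k) (r₁ := 1) (r₂ := ν)
    (div_ne_zero hs12 hx0) one_ne_zero hν0
  obtain ⟨t, ht, hte⟩ := exists_T (C := C) hk3 (emb_mem_Blk c D.k hk3 B)
  have htx : D.Nice (act (C.π t) x) := by
    have h := co_emb3 c hk3 B x 0
    simp only [Fin.val_zero, add_zero] at h
    rw [Nice, hte, h, B0, B1, B2, div_mul_cancel₀ _ hx0]
    linear_combination (co x (D.k + 1) + ν * co x (D.k + 2)) * two_eq_zero D.hF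
  set u := act (C.π t⁻¹) D.e with hu
  have hti : C.π t⁻¹ = emb c D.k hk3 B⁻¹ := by rw [map_inv, hte, map_inv]
  have hu' : ∀ i : Fin 3, co u (D.k + i) = c.σ (mat B 0 i) := fun i => by
    rw [hu, hti, co_emb3 c hk3, e, co_ev (show D.k < m by omega), co_ev (show D.k < m by omega),
      co_ev (show D.k < m by omega), if_pos rfl, if_neg (by omega), if_neg (by omega), mat_inv c]
    ring
  have hu1 : co u (D.k + 1) = 1 := by
    have h := hu' 1
    simp only [Fin.val_one, B1, map_one] at h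
    exact h
  have hu2 : co u (D.k + 2) = c.σ ν := by
    have h := hu' 2
    simp only [Fin.val_two, B2] at h
    exact h
  have hu3 : co u (D.k + 3) = 0 := by
    rw [hu, hti, co_Blk c (emb_mem_Blk c D.k hk3 _) (Or.inr le_rfl), e,
      co_ev (show D.k < m by omega), if_neg (by omega)]
  set v := act (C.π a) u with hv
  have huV : D.Vec₁ u := D.vec_act (by rw [hti]; exact emb_mem_Blk c D.k hk3 _) le_rfl D.vec_e
  have hvV : D.Vec₁ v := D.vec_act (D.π_T₁ ha) (Nat.le_succ _) huV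
  have hv3 : co v (D.k + 3) = 0 := by
    have h := co_emb3 c (show D.k + 1 + 3 ≤ m by omega) g u 2
    simp only [Fin.val_two, Nat.add_assoc] at h
    rw [hv, hg, h, hu1, hu2, hu3, hν, c.invol, mul_one, mul_zero, add_zero, mul_div_cancel₀ _ g1]
    linear_combination mat g 2 0 * two_eq_zero D.hF
  have hvo : ∀ l, l < D.k ∨ D.k + 3 ≤ l → co v l = 0 := by
    intro l hl
    rcases hl with hl | hl
    · exact hvV.1 l hl
    · rcases eq_or_lt_of_le hl with rfl | hl
      · exact hv3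
      · rw [hv, co_Blk c (D.π_T₁ ha) (Or.inr (by omega)), hu, hti,
          co_Blk c (emb_mem_Blk c D.k hk3 _) (Or.inr (by omega)), e,
          co_ev (show D.k < m by omega), if_neg (by omega)]
  obtain ⟨g', hg', hge⟩ := trans_three c D.hF hk3 v hvo hvV.2
  obtain ⟨t', ht', rfl⟩ := exists_T (C := C) hk3 hg'
  obtain ⟨b, hb⟩ : ∃ b, b = t' * a * t⁻¹ := ⟨_, rfl⟩
  have hbL : b ∈ D.L := D.J_stab (hb ▸ mul_mem (mul_mem (D.T₀_le_J ht') (D.T₁_le_J ha))
    (inv_mem (D.T₀_le_J ht))) (by rw [hb, map_mul, map_mul, act_mul, act_mul, ← hu, ← hv]; exact hge)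
  rw [show a = t'⁻¹ * (b * t) by rw [hb]; group]
  have v0 : D.Vec₁ (act (C.π t) x) := D.vec_act (D.π_T₀ ht) le_rfl hx
  refine Ok.mul (Ok.mul (D.ok_T₀ ht hx) (D.ok_L_nice hbL v0 htx)) (D.ok_T₀ (inv_mem ht') ?_)
  rw [map_mul, act_mul]
  exact D.vec_act (D.π_L hbL) (Nat.le_succ _) v0

theorem ok_swap₂ {a : K} (ha : a ∈ C.S (D.k + 2)) {b : F} {hb : nm c b = 1}
    (hg : C.π a = emb c (D.k + 2) (show D.k + 2 + 2 ≤ m by have := D.hk; omega) (ad c b hb))
    {x : Fin m → F} (hx : D.Vec₁ x) : D.Ok a x := by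
  have := D.hk
  have haL : a ∈ D.L := C.S_le_Fam (Nat.le_succ _) (by omega) ha
  by_cases h1 : co x (D.k + 1) = 0
  · refine D.ok_comm haL (D.S₀_le_T₀ D.w₀_mem)
      (C.commSS D.k (D.k + 2) le_rfl (by omega) _ D.w₀_mem _ ha) hx ?_
    rw [Nice, D.π_w₀, (co_swap D.hF _ _).1, h1]
  obtain ⟨w, hw⟩ := exists_w D.hF
  have hw0 := w_ne_zero D.hF hw
  have pick : ∀ y : F, ∃ s, s ≠ 0 ∧ 1 + s * y ≠ 0 := fun y => by
    by_cases hy : y = 0
    · exact ⟨1, one_ne_zero, by simp [hy]⟩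
    · refine ⟨w / y, div_ne_zero hw0 hy, fun e => w_ne_one D.hF hw ?_⟩
      rw [div_mul_cancel₀ _ hy] at e
      linear_combination e - two_eq_zero D.hF
  obtain ⟨s, hs, hs'⟩ := pick (co x (D.k + 2))
  obtain ⟨v, hv, hv'⟩ := pick (co x (D.k + 3))
  have hk1 : D.k + 1 + 3 ≤ m := by omega
  obtain ⟨A, hA⟩ := exists_A c D.hF hw (inv_ne_zero h1) hs hv
  obtain ⟨a', ha', hae⟩ := exists_T (C := C) hk1 (emb_mem_Blk c (D.k + 1) hk1 A)
  have haT : a ∈ C.T (D.k + 1) := C.S_le' _ hk1 ha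
  have ok1 : D.Ok a' x := D.ok_good ha' hae (by simp [hA, h1]) (by simp [hA, hs]) hx
    (by simp [hA, inv_mul_cancel₀ h1]; exact hs')
  obtain ⟨δ, hδ⟩ : ∃ δ, δ = ((co x (D.k + 1))⁻¹ * s * v)⁻¹ := ⟨_, rfl⟩
  have hδ0 : δ ≠ 0 := by rw [hδ]; simp [h1, hs, hv]
  have hb0 := ne_of_nm c D.hF hb
  have hg2 : C.π (a * a'⁻¹) = emb c (D.k + 1) hk1
      (emb c 1 (show 1 + 2 ≤ 3 by norm_num) (ad c b hb) * A⁻¹) := by
    rw [map_mul, map_inv, hg, hae, map_mul, map_inv, emb_emb]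
  have hrow : ∀ j : Fin 3, mat (emb c 1 (show 1 + 2 ≤ 3 by norm_num) (ad c b hb) * A⁻¹) 2 j =
      b * c.σ (mat A j 1) := fun j => by
    rw [mat_mul, Matrix.mul_apply, Fin.sum_univ_three, mat_emb_other c 1 _ _ (Or.inr (Or.inl
      (show ((0 : Fin 3) : ℕ) < 1 by decide))),
      show (2 : Fin 3) = shift (r := 2) 1 (show 1 + 2 ≤ 3 by norm_num) 1 from rfl,
      show (1 : Fin 3) = shift (r := 2) 1 (show 1 + 2 ≤ 3 by norm_num) 0 from rfl,
      mat_emb_shift, mat_emb_shift, mat_ad c D.hF]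
    simp [shift, mat_inv c]
  have h01 : mat (emb c 1 (show 1 + 2 ≤ 3 by norm_num) (ad c b hb) * A⁻¹) 2 0 =
      b * c.σ (δ * (w * s)) := by rw [hrow, hA, hδ]; simp
  have h11 : mat (emb c 1 (show 1 + 2 ≤ 3 by norm_num) (ad c b hb) * A⁻¹) 2 1 =
      b * c.σ (w ^ 2 * s) := by rw [hrow, hA]; simp
  have cz : ∀ {t : F}, t ≠ 0 → c.σ t ≠ 0 := fun h e => h (c.eq_zero e)
  rw [show a = a * a'⁻¹ * a' by group]
  refine Ok.mul ok1 (D.ok_good (mul_mem haT (inv_mem ha')) hg2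
    (by rw [h01]; exact mul_ne_zero hb0 (cz (by simp [hδ0, hw0, hs])))
    (by rw [h11]; exact mul_ne_zero hb0 (cz (by simp [hw0, hs])))
    (D.vec_act (D.π_T₁ ha') (Nat.le_succ _) hx) ?_)
  have z0 := co_emb3 c hk1 A x 0
  have z1 := co_emb3 c hk1 A x 1
  simp only [Fin.val_zero, Fin.val_one, add_zero, Nat.add_assoc] at z0 z1
  rw [h01, h11, hae, z0, show D.k + 2 = D.k + (1 + 1) from rfl, z1]
  simp only [hA, ← hδ]
  simp
  intro e
  apply hv'
  have hδn := nm_of_ne c D.hF hδ0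
  have hsn := nm_of_ne c D.hF hs
  simp only [nm] at hδn hsn
  have hcw : c.σ w = w ^ 2 := conj_sq c w
  have hbs : b * c.σ s ≠ 0 := mul_ne_zero hb0 (cz hs)
  refine (mul_eq_zero.1 (show b * c.σ s * (1 + v * co x (D.k + 3)) = 0 from ?_)).resolve_left hbs
  have e1 : (co x (D.k + 1))⁻¹ * co x (D.k + 1) = 1 := inv_mul_cancel₀ h1
  simp only [hcw] at e
  have h3 := w_cube D.hF hw
  linear_combination e +
    (-b * c.σ s * w ^ 2 * ((co x (D.k + 1))⁻¹ * co x (D.k + 1) + w * s * co x (D.k + 2) +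
      w ^ 2 * v * co x (D.k + 3))) * hδn +
    (-b * c.σ s * (w ^ 4 + w ^ 2)) * e1 +
    (-b * c.σ s * (1 + v * co x (D.k + 3))) * hw +
    (-b * c.σ s * (w + v * co x (D.k + 3) * (w + w ^ 2) + s * co x (D.k + 2) * (2 + w ^ 3))) * h3 +
    (b * c.σ s * (1 + v * co x (D.k + 3) - s * co x (D.k + 2))) * two_eq_zero D.hF

theorem ok_S₂ {a : K} (ha : a ∈ C.S (D.k + 2)) {x : Fin m → F} (hx : D.Vec₁ x) : D.Ok a x := by
  have := D.hk
  have hk : D.k + 2 + 2 ≤ m := by omega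
  obtain ⟨g, hg⟩ := (range_emb c (D.k + 2) hk).ge (C.map_mem_S hk ha)
  rcases elem_forms c D.hF g with ⟨t, ht, rfl⟩ | ⟨b, hb, rfl⟩
  swap
  · exact D.ok_swap₂ ha hg.symm hx
  obtain ⟨a₁, ha₁, he₁⟩ := exists_S (C := C) hk
    (emb_mem_Blk c (D.k + 2) hk (ad c 1 (nm_one c)))
  have he : C.π (a * a₁) =
      emb c (D.k + 2) hk (ad c (c.σ t * 1) (by rw [nm_mul, nm_conj, ht, nm_one, one_mul])) := by
    rw [map_mul, he₁, ← hg, ← map_mul, dg_mul_ad c D.hF]
  rw [show a = a * a₁ * a₁⁻¹ by group]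
  have hinv : C.π a₁⁻¹ = emb c (D.k + 2) hk (ad c 1 (nm_one c)) := by
    rw [map_inv, he₁, ← map_inv, inv_eq_of_mul_eq_one_right (ad_sq c D.hF 1 (nm_one c))]
  refine Ok.mul (D.ok_swap₂ (inv_mem ha₁) hinv hx) (D.ok_swap₂ (mul_mem ha ha₁) he ?_)
  exact D.vec_act (C.map_mem_S hk (inv_mem ha₁)) (by omega) hx

/-- The elements commuting with the section everywhere. -/
def Stable : Subgroup K where
  carrier := {a | C.π a ∈ Blk c m D.k m ∧ ∀ x, D.Vec₁ x → D.Ok a x}
  one_mem' := ⟨by rw [map_one]; exact one_mem _,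
    fun x _ => by rw [Ok, map_one, act_one, one_smul]⟩
  mul_mem' := fun {a b} ha hb => ⟨by rw [map_mul]; exact mul_mem ha.1 hb.1,
    fun x hx => Ok.mul (hb.2 x hx) (ha.2 _ (D.vec_act hb.1 le_rfl hx))⟩
  inv_mem' := fun {a} ha => ⟨by rw [map_inv]; exact inv_mem ha.1, fun x hx => by
    have hx' : D.Vec₁ (act (C.π a⁻¹) x) := D.vec_act (by rw [map_inv]; exact inv_mem ha.1) le_rfl hx
    have := (ha.2 _ hx').inv
    rwa [map_inv, act_act_inv] at this⟩

/-- A block is conjugate to its predecessor by three swaps. -/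
theorem conj_T {j : ℕ} (hj : j + 4 ≤ m) (hF : Nat.card F = 2 ^ 2) {H : Subgroup K}
    (hT : C.T j ≤ H) (hS : C.S (j + 2) ≤ H) : C.T (j + 1) ≤ H := by
  intro a ha
  obtain ⟨p₀, hp₀, e₀⟩ := exists_S (C := C) (show j + 2 ≤ m by omega)
    (emb_mem_Blk c j (show j + 2 ≤ m by omega) (ad c 1 (nm_one c)))
  obtain ⟨p₁, hp₁, e₁⟩ := exists_S (C := C) (show j + 1 + 2 ≤ m by omega)
    (emb_mem_Blk c (j + 1) (show j + 1 + 2 ≤ m by omega) (ad c 1 (nm_one c)))
  obtain ⟨p₂, hp₂, e₂⟩ := exists_S (C := C) (show j + 2 + 2 ≤ m by omega)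
    (emb_mem_Blk c (j + 2) (show j + 2 + 2 ≤ m by omega) (ad c 1 (nm_one c)))
  have t0 : p₀ ∈ C.T j := C.S_le j (by omega) hp₀
  have t1 : p₁ ∈ C.T j := C.S_le' j (by omega) hp₁
  have t2 : p₂ ∈ C.T (j + 1) := C.S_le' (j + 1) (by omega) hp₂
  obtain ⟨q, hq⟩ : ∃ q, q = p₀ * p₁ * p₂ := ⟨_, rfl⟩
  have hqJ : q ∈ C.T j ⊔ C.T (j + 1) :=
    hq ▸ mul_mem (mul_mem (Subgroup.mem_sup_left t0) (Subgroup.mem_sup_left t1)) (Subgroup.mem_sup_right t2)
  have hB : C.π (q⁻¹ * a * q) ∈ Blk c m j 3 := by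
    intro l hl
    have hq3 : act (C.π q) (ev m F (j + 3)) = ev m F j := by
      have r2 : act (emb c (j + 2) (show j + 2 + 2 ≤ m by omega) (ad c 1 (nm_one c)))
          (ev m F (j + 3)) = ev m F (j + 2) := (act_swap_ev hF _).2
      have r1 : act (emb c (j + 1) (show j + 1 + 2 ≤ m by omega) (ad c 1 (nm_one c)))
          (ev m F (j + 2)) = ev m F (j + 1) := (act_swap_ev hF _).2
      have r0 : act (emb c j (show j + 2 ≤ m by omega) (ad c 1 (nm_one c)))
          (ev m F (j + 1)) = ev m F j := (act_swap_ev hF _).2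
      rw [hq, map_mul, map_mul, act_mul, act_mul, e₀, e₁, e₂, r2, r1, r0]
    rw [← ev_eq_single, map_mul, map_mul, map_inv, act_mul, act_mul]
    by_cases h3 : (l : ℕ) = j + 3
    · rw [h3, hq3, act_ev_Blk c (C.map_mem_T (show j + 1 + 3 ≤ m by omega) ha)
        (Or.inl (Nat.lt_succ_self _)), ← hq3, act_inv_act]
    · have hfix : act (C.π q) (ev m F l) = ev m F l := by
        rw [hq, map_mul, map_mul, act_mul, act_mul,
          act_ev_Blk c (C.map_mem_S (show j + 2 + 2 ≤ m by omega) hp₂) (by omega),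
          act_ev_Blk c (C.map_mem_S (show j + 1 + 2 ≤ m by omega) hp₁) (by omega),
          act_ev_Blk c (C.map_mem_S (show j + 2 ≤ m by omega) hp₀) (by omega)]
      rw [hfix, act_ev_Blk c (C.map_mem_T (show j + 1 + 3 ≤ m by omega) ha) (by omega)]
      conv_lhs => rw [← hfix, act_inv_act]
  obtain ⟨a', ha', e'⟩ := exists_T (C := C) (show j + 3 ≤ m by omega) hB
  have hqH : q ∈ H := hq ▸ mul_mem (mul_mem (hT t0) (hT t1)) (hS hp₂)
  have e : a' = q⁻¹ * a * q := (C.inj₄ j hj).eq (Subgroup.mem_sup_left ha')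
    (mul_mem (mul_mem (inv_mem hqJ) (Subgroup.mem_sup_right ha)) hqJ) e'
  rw [show a = q * a' * q⁻¹ by rw [e]; group]
  exact mul_mem (mul_mem hqH (hT ha')) (inv_mem hqH)

theorem fam_le_stable : C.Fam D.k ≤ D.Stable := by
  have := D.hk
  have hbig : ∀ {i r : ℕ} {a : SUg m F 2}, a ∈ Blk c m i r → D.k ≤ i → a ∈ Blk c m D.k m :=
    fun ha hi l hl => ha l (by have := l.isLt; omega)
  have hT0 : C.T D.k ≤ D.Stable := fun a ha =>
    ⟨hbig (D.π_T₀ ha) le_rfl, fun x hx => D.ok_T₀ ha hx⟩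
  have hM : D.M ≤ D.Stable := fun a ha =>
    ⟨hbig (C.map_mem_Fam ha) (by omega), fun x hx => D.ok_M ha hx⟩
  have hS2 : C.S (D.k + 2) ≤ D.Stable := fun a ha =>
    ⟨hbig (C.map_mem_S (by omega) ha) (by omega), fun x hx => D.ok_S₂ ha hx⟩
  have hT1 : C.T (D.k + 1) ≤ D.Stable := conj_T (by omega) D.hF hT0 hS2
  have hT2 : C.T (D.k + 2) ≤ D.Stable := conj_T (by omega) D.hF hT1
    ((C.S_le_Fam (k := D.k + 3) le_rfl (by omega)).trans hM)
  refine C.Fam_le (fun j hj hj' => ?_) (fun j hj hj' => ?_)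
  · rcases (show j = D.k ∨ j = D.k + 1 ∨ j = D.k + 2 ∨ D.k + 3 ≤ j by omega) with rfl | rfl | rfl | h
    · exact D.S₀_le_T₀.trans hT0
    · exact D.S₁_le_T₀.trans hT0
    · exact hS2
    · exact (C.S_le_Fam h hj').trans hM
  · rcases (show j = D.k ∨ j = D.k + 1 ∨ j = D.k + 2 ∨ D.k + 3 ≤ j by omega) with rfl | rfl | rfl | h
    · exact hT0
    · exact hT1
    · exact hT2
    · exact (C.T_le_Fam h hj').trans hM

include D in
/-- The inductive step. -/
theorem good : C.Good D.k := by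
  have := D.hk
  refine C.good_of_inj D.hF (by omega) D.hI fun a ha h => ?_
  have hkap : D.kap D.e = D.base := by
    have hn : D.Nice (act (C.π D.w₀) D.e) := by
      rw [D.act_w₀, Nice, co_ev (show D.k + 1 < m by omega), if_neg (by omega)]
    rw [D.kap_eq D.vec_e (D.S₀_le_T₀ D.w₀_mem) hn,
      D.kG_eq ⟨1, one_mem _, by rw [map_one, act_one, D.act_w₀], rfl⟩, one_mul, inv_smul_smul]
  have h1 := (D.fam_le_stable ha).2 D.e D.vec_e
  rw [Ok, h, act_one, hkap, D.smul_base, base] at h1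
  have h2 : a ∈ D.L := by simpa using (QuotientGroup.eq.1 h1.symm)
  exact D.hI.inj a h2 h

end Lvl

namespace TCover

variable (C : TCover c m K) (hF : Nat.card F = 2 ^ 2)
include hF

theorem good (k : ℕ) : C.Good k := by
  suffices ∀ d k, m ≤ k + d → C.Good k from this m k (Nat.le_add_left m k)
  intro d
  induction d using Nat.strong_induction_on with
  | h d ih =>
    intro k hd
    by_cases h1 : m ≤ k + 1
    · exact C.good_top h1
    by_cases h2 : k + 2 = m
    · exact C.good_two h2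
    by_cases h3 : k + 3 = m
    · exact C.good_three hF h3
    by_cases h4 : k + 4 = m
    · exact C.good_four hF h4
    exact Lvl.good (C := C)
      { k := k, hk := by omega, hI := ih (d - 1) (by omega) (k + 1) (by omega),
        hI2 := ih (d - 1) (by omega) (k + 2) (by omega),
        hI3 := ih (d - 1) (by omega) (k + 3) (by omega), hF := hF }

theorem bijective (hgen : C.Fam 0 = ⊤) : Function.Bijective C.π := by
  have h := C.good hF 0
  refine ⟨(injective_iff_map_eq_one C.π).2 fun a => h.inj a (by rw [hgen]; exact Subgroup.mem_top a),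
    fun g => ?_⟩
  obtain ⟨a, -, ha⟩ := h.map (show g ∈ Blk c m 0 m from fun l hl => absurd hl (by have := l.isLt; omega))
  exact ⟨a, ha⟩

end TCover

end CfsgLib.SUPhanTwo
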