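/-
A homomorphism on the three-dimensional group agreeing with the standard embedding on both blocks.
-/
import Cfsg.Agent.Lib.SUPhanTwo.Local
import Cfsg.Agent.Lib.SUPhanTwo.Section

set_option autoImplicit false
set_option linter.unusedSectionVars false

open Matrix

namespace CfsgLib.SUPhanTwo

open CfsgLib.ClassicalForms CfsgLib.SUAmalgam

variable {F : Type*} [Field F] [Fintype F] (c : Conj F 2) (hF : Nat.card F = 2 ^ 2)

theorem mat_three₀ (g : SUg 2 F 2) : mat (emb c 0 (by norm_num : (0 : ℕ) + 2 ≤ 3) g) =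
    !![mat g 0 0, mat g 0 1, 0; mat g 1 0, mat g 1 1, 0; 0, 0, 1] := by
  have hk : (0 : ℕ) + 2 ≤ 3 := by norm_num
  have e0 : (0 : Fin 3) = shift (r := 2) 0 hk 0 := rfl
  have e1 : (1 : Fin 3) = shift (r := 2) 0 hk 1 := rfl
  ext i l
  fin_cases i <;> fin_cases l
  all_goals first
    | exact (congrArg₂ (mat (emb c 0 hk g)) e0 e0).trans (mat_emb_shift c 0 hk g 0 0)
    | exact (congrArg₂ (mat (emb c 0 hk g)) e0 e1).trans (mat_emb_shift c 0 hk g 0 1)
    | exact (congrArg₂ (mat (emb c 0 hk g)) e1 e0).trans (mat_emb_shift c 0 hk g 1 0)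
    | exact (congrArg₂ (mat (emb c 0 hk g)) e1 e1).trans (mat_emb_shift c 0 hk g 1 1)
    | (rw [mat_emb_other c 0 hk g (by simp)]; simp)

theorem mat_three₁ (g : SUg 2 F 2) : mat (emb c 1 (by norm_num : 1 + 2 ≤ 3) g) =
    !![1, 0, 0; 0, mat g 0 0, mat g 0 1; 0, mat g 1 0, mat g 1 1] := by
  have hk : 1 + 2 ≤ 3 := by norm_num
  have e0 : (1 : Fin 3) = shift (r := 2) 1 hk 0 := rfl
  have e1 : (2 : Fin 3) = shift (r := 2) 1 hk 1 := rfl
  ext i l
  fin_cases i <;> fin_cases l
  all_goals first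
    | exact (congrArg₂ (mat (emb c 1 hk g)) e0 e0).trans (mat_emb_shift c 1 hk g 0 0)
    | exact (congrArg₂ (mat (emb c 1 hk g)) e0 e1).trans (mat_emb_shift c 1 hk g 0 1)
    | exact (congrArg₂ (mat (emb c 1 hk g)) e1 e0).trans (mat_emb_shift c 1 hk g 1 0)
    | exact (congrArg₂ (mat (emb c 1 hk g)) e1 e1).trans (mat_emb_shift c 1 hk g 1 1)
    | (rw [mat_emb_other c 1 hk g (by simp)]; simp)

include hF

/-- A subgroup containing both blocks contains every element with last row of weight one. -/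
theorem mem_of_row_one (S : Subgroup (SUg 3 F 2))
    (h₀ : ∀ g, emb c 0 (by norm_num : (0 : ℕ) + 2 ≤ 3) g ∈ S)
    (h₁ : ∀ g, emb c 1 (by norm_num : 1 + 2 ≤ 3) g ∈ S) {x : SUg 3 F 2}
    (hx : (mat x 2 0 = 0 ∧ mat x 2 1 = 0) ∨ (mat x 2 0 = 0 ∧ mat x 2 2 = 0) ∨
      (mat x 2 1 = 0 ∧ mat x 2 2 = 0)) : x ∈ S := by
  have last : ∀ x : SUg 3 F 2, mat x 2 0 = 0 → mat x 2 1 = 0 → x ∈ S := by
    intro x h0 h1
    have hr := congrFun (congrFun (congrArg mat (mul_inv_cancel x)) 2) 2
    rw [mat_mul, Matrix.mul_apply, Fin.sum_univ_three, h0, h1, mat_inv c, mat_inv c, mat_inv c,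
      mat_one, Matrix.one_apply_eq, zero_mul, zero_mul, zero_add, zero_add] at hr
    have hz : nm c (mat x 2 2) = 1 := hr
    obtain ⟨d, hd⟩ : ∃ d, d = emb c 1 (by norm_num : 1 + 2 ≤ 3) (dg c (mat x 2 2) hz) := ⟨_, rfl⟩
    have hy : x * d ∈ Blk c 3 0 2 := by
      intro k hk
      obtain rfl : k = 2 := by
        have := k.isLt
        exact Fin.ext (show (k : ℕ) = 2 by omega)
      have hfix : act (x * d)⁻¹ (Pi.single 2 1) = Pi.single 2 1 := by
        funext l
        rw [act_single, mat_inv c, mat_mul, hd, mat_three₁, mat_dg, Matrix.mul_apply, Fin.sum_univ_three,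
          h0, h1]
        fin_cases l <;> simp [c.invol]
        simp only [nm] at hz
        linear_combination hz
      conv_lhs => rw [← hfix, act_act_inv]
    obtain ⟨g, hg⟩ := (range_emb c 0 (by norm_num : (0 : ℕ) + 2 ≤ 3)).ge hy
    rw [show x = x * d * d⁻¹ by group, ← hg]
    exact mul_mem (h₀ g) (inv_mem (hd ▸ h₁ _))
  have mid : ∀ x : SUg 3 F 2, mat x 2 0 = 0 → mat x 2 2 = 0 → x ∈ S := by
    intro x h0 h2
    have := last (x * emb c 1 (by norm_num : 1 + 2 ≤ 3) (ad c 1 (nm_one c)))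
      (by rw [mat_mul, mat_three₁, mat_ad c hF, Matrix.mul_apply, Fin.sum_univ_three]; simp [h0])
      (by rw [mat_mul, mat_three₁, mat_ad c hF, Matrix.mul_apply, Fin.sum_univ_three]; simp [h2])
    exact (Subgroup.mul_mem_cancel_right S (h₁ _)).1 this
  rcases hx with ⟨h0, h1⟩ | ⟨h0, h2⟩ | ⟨h1, h2⟩
  · exact last x h0 h1
  · exact mid x h0 h2
  · have := mid (x * emb c 0 (by norm_num : (0 : ℕ) + 2 ≤ 3) (ad c 1 (nm_one c)))
      (by rw [mat_mul, mat_three₀, mat_ad c hF, Matrix.mul_apply, Fin.sum_univ_three]; simp [h1])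
      (by rw [mat_mul, mat_three₀, mat_ad c hF, Matrix.mul_apply, Fin.sum_univ_three]; simp [h2])
    exact (Subgroup.mul_mem_cancel_right S (h₀ _)).1 this

/-- An element commuting with a torus and a cycle of a block is scalar there. -/
theorem centralise {w : F} (hw : w ^ 2 + w + 1 = 0) {i : ℕ} (hi : i + 3 ≤ 4)
    {P : SUg 3 F 2} (hP₁ : mat P 1 0 ≠ 0) (hP₂ : mat P 2 1 ≠ 0) {y : SUg 4 F 2}
    (ht₀ : Commute (emb c i hi (emb c 0 (by norm_num : (0 : ℕ) + 2 ≤ 3)
      (dg c w (nm_of_ne c hF (w_ne_zero hF hw))))) y)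
    (ht₁ : Commute (emb c i hi (emb c 1 (by norm_num : 1 + 2 ≤ 3)
      (dg c w (nm_of_ne c hF (w_ne_zero hF hw))))) y)
    (hPy : Commute (emb c i hi P) y) :
    ∃ s : SUg 3 F 2, y = emb c i hi s ∧ s * s * s = 1 ∧ ∀ x, Commute x s := by
  classical
  have h1 := w_ne_one hF hw
  have h1' : c.σ w ≠ 1 := by rw [conj_sq c]; exact w_sq_ne_one hF hw
  have h12 : w ≠ c.σ w := fun e => h1
    (mul_left_cancel₀ (w_ne_zero hF hw) (by rw [conj_sq c] at e; linear_combination -e))
  rw [emb_emb] at ht₀ ht₁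
  let f : ℕ → Fin 4 → F := fun k l => if (l : ℕ) = k then w else if (l : ℕ) = k + 1 then c.σ w else 1
  have off : ∀ k l, k ≠ l → mat y k l = 0 := by
    intro k l hkl
    have e0 := congrFun (congrFun (congrArg mat ht₀.eq) k) l
    have e1 := congrFun (congrFun (congrArg mat ht₁.eq) k) l
    rw [mat_mul, mat_mul, mat_emb_dg, Matrix.diagonal_mul, Matrix.mul_diagonal] at e0 e1
    have z : ∀ a b : F, a * mat y k l = mat y k l * b → a ≠ b → mat y k l = 0 := fun a b e h => by
      have : (a - b) * mat y k l = 0 := by linear_combination e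
      exact (mul_eq_zero.1 this).resolve_left (sub_ne_zero.2 h)
    rcases (show i = 0 ∨ i = 1 by omega) with rfl | rfl <;> fin_cases k <;> fin_cases l <;>
      first
        | exact absurd rfl hkl
        | (refine z _ _ e0 ?_; simp [h1, h1', h12, h1.symm, h1'.symm, h12.symm]; done)
        | (refine z _ _ e1 ?_; simp [h1, h1', h12, h1.symm, h1'.symm, h12.symm]; done)
  obtain ⟨a, ha⟩ : ∃ a : Fin 4 → F, a = fun k => mat y k k := ⟨_, rfl⟩
  have hy : mat y = Matrix.diagonal a := by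
    ext k l
    by_cases h : k = l
    · subst h; simp [ha]
    · rw [off k l h, Matrix.diagonal_apply_ne _ h]
  have step : ∀ p q : Fin 3, mat P p q ≠ 0 → a (shift i hi p) = a (shift i hi q) := by
    intro p q hpq
    have e := congrFun (congrFun (congrArg mat hPy.eq) (shift i hi p)) (shift i hi q)
    rw [mat_mul, mat_mul, hy, Matrix.mul_diagonal, Matrix.diagonal_mul, mat_emb_shift, mul_comm] at e
    exact (mul_right_cancel₀ hpq e).symm
  have hab := step 1 0 hP₁
  have hbc := step 2 1 hP₂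
  obtain ⟨α, hα⟩ : ∃ α, α = a (shift i hi 0) := ⟨_, rfl⟩
  have hs : ∀ p : Fin 3, a (shift i hi p) = α := fun p => by
    fin_cases p
    exacts [hα.symm, hab.trans hα.symm, (hbc.trans hab).trans hα.symm]
  have hdet : a 0 * a 1 * a 2 * a 3 = 1 := by
    have := y.1.2
    change (mat y).det = 1 at this
    rw [hy, Matrix.det_diagonal, Fin.prod_univ_four] at this
    exact this
  have hyB : y ∈ Blk c 4 i 3 := by
    intro k hk
    funext l
    rw [act_single, hy, Matrix.diagonal_apply, Pi.single_apply]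
    by_cases hlk : l = k
    · subst hlk
      rw [if_pos rfl, if_pos rfl]
      have hα0 : α ≠ 0 := fun e => by
        rcases (show i = 0 ∨ i = 1 by omega) with rfl | rfl
        · rw [show a 0 = α from hs 0, e] at hdet; simp at hdet
        · rw [show a 1 = α from hs 0, e] at hdet; simp at hdet
      have h3 := pow_three hF hα0
      rcases (show i = 0 ∨ i = 1 by omega) with rfl | rfl
      · obtain rfl : l = 3 := Fin.ext (show (l : ℕ) = 3 by omega)
        rw [show a 0 = α from hs 0, show a 1 = α from hs 1, show a 2 = α from hs 2] at hdet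
        linear_combination hdet - a 3 * h3
      · obtain rfl : l = 0 := Fin.ext (show (l : ℕ) = 0 by omega)
        rw [show a 1 = α from hs 0, show a 2 = α from hs 1, show a 3 = α from hs 2] at hdet
        linear_combination hdet - a 0 * h3
    · rw [if_neg hlk, if_neg hlk]
  obtain ⟨s, hse⟩ := (range_emb c i hi).ge hyB
  have hsm : mat s = α • (1 : Matrix (Fin 3) (Fin 3) F) := by
    ext p q
    rw [← mat_emb_shift c i hi, hse, hy, Matrix.smul_apply, Matrix.one_apply, Matrix.diagonal_apply]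
    by_cases hpq : p = q
    · subst hpq; simp [hs]
    · simp [hpq, (shift_injective i hi).ne hpq]
  refine ⟨s, hse.symm, ?_, fun x => ?_⟩
  · have hd : α ^ 3 = 1 := by
      have := s.1.2
      change (mat s).det = 1 at this
      simpa [hsm] using this
    refine ext_mat fun p q => ?_
    rw [mat_mul, mat_mul, hsm]
    simp only [Matrix.smul_mul, Matrix.mul_smul, Matrix.one_mul, smul_smul, Matrix.smul_apply,
      smul_eq_mul, mat_one]
    linear_combination ((1 : Matrix (Fin 3) (Fin 3) F) p q) * hd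
  · refine ext_mat fun p q => ?_
    rw [mat_mul, mat_mul, hsm]
    simp

/-- Agreement on both blocks implies agreement. -/
theorem agree {i : ℕ} (hi : i + 3 ≤ 4) (Ψ : SUg 3 F 2 →* SUg 4 F 2)
    (h₀ : ∀ g, Ψ (emb c 0 (by norm_num : (0 : ℕ) + 2 ≤ 3) g) =
      emb c i hi (emb c 0 (by norm_num : (0 : ℕ) + 2 ≤ 3) g))
    (h₁ : ∀ g, Ψ (emb c 1 (by norm_num : 1 + 2 ≤ 3) g) =
      emb c i hi (emb c 1 (by norm_num : 1 + 2 ≤ 3) g)) : Ψ = emb c i hi := by
  classical
  obtain ⟨S, hSdef⟩ : ∃ S, S = MonoidHom.eqLocus Ψ (emb c i hi) := ⟨_, rfl⟩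
  have mS : ∀ x, x ∈ S ↔ Ψ x = emb c i hi x := fun x => hSdef ▸ Iff.rfl
  have S₀ : ∀ g, emb c 0 (by norm_num : (0 : ℕ) + 2 ≤ 3) g ∈ S := fun g => (mS _).2 (h₀ g)
  have S₁ : ∀ g, emb c 1 (by norm_num : 1 + 2 ≤ 3) g ∈ S := fun g => (mS _).2 (h₁ g)
  have row := fun {x} => mem_of_row_one c hF S S₀ S₁ (x := x)
  obtain ⟨w, hw⟩ := exists_w hF
  have hcw : c.σ w = w ^ 2 := conj_sq c w
  obtain ⟨A, hA⟩ := exists_A c hF hw (one_ne_zero : (1 : F) ≠ 0) one_ne_zero one_ne_zero
  obtain ⟨P, hP⟩ := exists_cyc c hF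
  obtain ⟨u, hu⟩ : ∃ u, u = dg c w (nm_of_ne c hF (w_ne_zero hF hw)) := ⟨_, rfl⟩
  have hT₀ : mat (emb c 0 (by norm_num : (0 : ℕ) + 2 ≤ 3) u) = Matrix.diagonal ![w, w ^ 2, 1] := by
    rw [mat_three₀, hu, mat_dg, hcw]; ext p q; fin_cases p <;> fin_cases q <;> simp
  have hT₁ : mat (emb c 1 (by norm_num : 1 + 2 ≤ 3) u) = Matrix.diagonal ![1, w, w ^ 2] := by
    rw [mat_three₁, hu, mat_dg, hcw]; ext p q; fin_cases p <;> fin_cases q <;> simp
  -- the conjugates of three elements have last row of weight one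
  have hA2 : mat (A * A) 2 1 = 0 ∧ mat (A * A) 2 2 = 0 := by
    rw [mat_mul, hA]
    constructor <;> simp [Matrix.mul_apply, Fin.sum_univ_three] <;> linear_combination hw
  have hAd : ∀ d : SUg 3 F 2, ∀ j, mat (A * d * A⁻¹) 2 j =
      ∑ q, (mat d 0 q + mat d 1 q + mat d 2 q) * c.σ (mat A j q) := by
    intro d j
    rw [mat_mul, mat_mul, Matrix.mul_apply]
    refine Finset.sum_congr rfl fun q _ => ?_
    rw [Matrix.mul_apply, Fin.sum_univ_three, mat_inv c, hA]
    simp
  have hgood : ∀ δ : F, nm c δ = 1 → ∃ B ∈ S, mat B 2 0 = c.σ δ ∧ mat B 2 1 = 1 ∧ mat B 2 2 = 1 := by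
    intro δ hδ
    have hd : ∀ k, nm c ((![δ, 1, 1] : Fin 3 → F) k) = 1 := by intro k; fin_cases k <;> simp [hδ]
    obtain ⟨σ', hσ'⟩ : ∃ σ', σ' = semi c _ hd (RingEquiv.refl F) := ⟨_, rfl⟩
    have sm : ∀ x k l, mat (σ' x) k l =
        (![δ, 1, 1] : Fin 3 → F) k * mat x k l * c.σ ((![δ, 1, 1] : Fin 3 → F) l) := fun x k l => by
      rw [hσ', mat_semi_apply]; rfl
    have srow : ∀ {x}, ((mat x 2 0 = 0 ∧ mat x 2 1 = 0) ∨ (mat x 2 0 = 0 ∧ mat x 2 2 = 0) ∨
        (mat x 2 1 = 0 ∧ mat x 2 2 = 0)) → σ' x ∈ S := fun {x} h => row (by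
      simp only [sm]
      rcases h with ⟨a, b⟩ | ⟨a, b⟩ | ⟨a, b⟩ <;> simp [a, b])
    have hsd : ∀ {x : SUg 3 F 2} {f : Fin 3 → F}, mat x = Matrix.diagonal f → σ' x = x := by
      intro x f hx
      refine ext_mat fun k l => ?_
      rw [sm, hx]
      by_cases h : k = l
      · subst h
        have := hd k
        rw [nm] at this
        rw [Matrix.diagonal_apply_eq]
        linear_combination f k * this
      · rw [Matrix.diagonal_apply_ne _ h, mul_zero, zero_mul]
    refine ⟨σ' A, ?_, ?_, ?_, ?_⟩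
    · rw [mS]
      obtain ⟨y, hy⟩ : ∃ y, y = (emb c i hi (σ' A))⁻¹ * Ψ (σ' A) := ⟨_, rfl⟩
      have comm : ∀ d, σ' d ∈ S → σ' (A * d * A⁻¹) ∈ S → Commute (emb c i hi (σ' d)) y := by
        intro d h1 h2
        rw [mS] at h1 h2
        simp only [map_mul, map_inv] at h2
        rw [h1] at h2
        show _ * _ = _ * _
        have h3 : Ψ (σ' A) * emb c i hi (σ' d) =
            emb c i hi (σ' A) * emb c i hi (σ' d) * (emb c i hi (σ' A))⁻¹ * Ψ (σ' A) := by
          rw [← h2, inv_mul_cancel_right]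
        rw [hy, mul_assoc _ (Ψ (σ' A)), h3]
        group
      have c0 := comm _ (by rw [hsd hT₀]; exact S₀ _) (srow (Or.inr (Or.inr (by
        constructor <;> rw [hAd, hT₀, hA] <;> simp [Fin.sum_univ_three, hcw] <;>
          first
            | linear_combination hw
            | linear_combination (1 + (w - 1) * (w ^ 3 + 1)) * hw
            | linear_combination (w ^ 2 - w + 1) * hw
            | linear_combination w * hw
            | linear_combination (w ^ 3 - w + 1) * hw ))))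
      have c1 := comm _ (by rw [hsd hT₁]; exact S₁ _) (srow (Or.inr (Or.inr (by
        constructor <;> rw [hAd, hT₁, hA] <;> simp [Fin.sum_univ_three, hcw] <;>
          first
            | linear_combination hw
            | linear_combination (1 + (w - 1) * (w ^ 3 + 1)) * hw
            | linear_combination (w ^ 2 - w + 1) * hw
            | linear_combination w * hw
            | linear_combination (w ^ 3 - w + 1) * hw ))))
      have cP := comm P (srow (Or.inr (Or.inl (by simp [hP])))) (srow (Or.inl (by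
        constructor <;> rw [hAd, hP, hA] <;> simp [Fin.sum_univ_three, hcw] <;>
          first
            | linear_combination hw
            | linear_combination (1 + (w - 1) * (w ^ 3 + 1)) * hw
            | linear_combination (w ^ 2 - w + 1) * hw
            | linear_combination w * hw
            | linear_combination (w ^ 3 - w + 1) * hw )))
      rw [hsd hT₀, hu] at c0
      rw [hsd hT₁, hu] at c1
      obtain ⟨s, hs, hs3, hsc⟩ := centralise c hF hw hi (P := σ' P) (by simp [sm, hP, hδ, ne_of_nm c hF])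
        (by simp [sm, hP]) c0 c1 cP
      have hΨ : Ψ (σ' A) = emb c i hi (σ' A * s) := by
        rw [map_mul, ← hs, hy, mul_inv_cancel_left]
      have hsq : σ' A * σ' A ∈ S := by
        rw [← map_mul]; exact srow (Or.inr (Or.inr hA2))
      rw [mS, map_mul, hΨ, ← map_mul] at hsq
      have h1 := emb_injective c i hi hsq
      have hs2 : s * s = 1 := by
        refine mul_left_cancel (a := σ' A * σ' A) ?_
        rw [mul_one]
        calc σ' A * σ' A * (s * s) = σ' A * (σ' A * s) * s := by group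
          _ = σ' A * (s * σ' A) * s := congrArg (fun z => σ' A * z * s) (hsc (σ' A)).eq
          _ = σ' A * s * (σ' A * s) := by group
          _ = _ := h1
      have hs1 : s = 1 := by rw [← hs3, hs2, one_mul]
      rw [hΨ, hs1, mul_one]
    · rw [sm, hA]; simp
    · rw [sm, hA]; simp
    · rw [sm, hA]; simp
  refine MonoidHom.ext fun x => (mS x).1 ?_
  have hn := congrFun (congrFun (congrArg mat (mul_inv_cancel x)) 2) 2
  rw [mat_mul, Matrix.mul_apply, Fin.sum_univ_three, mat_inv c, mat_inv c, mat_inv c, mat_one,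
    Matrix.one_apply_eq] at hn
  by_cases hz : mat x 2 0 = 0 ∨ mat x 2 1 = 0 ∨ mat x 2 2 = 0
  · refine row ?_
    have key : ∀ a b d : F, a = 0 → a * c.σ a + b * c.σ b + d * c.σ d = 1 → b = 0 ∨ d = 0 := by
      intro a b d ha h
      by_contra hbd
      simp only [not_or] at hbd
      have e1 := nm_of_ne c hF hbd.1
      have e2 := nm_of_ne c hF hbd.2
      simp only [nm] at e1 e2
      rw [ha, zero_mul, zero_add, e1, e2] at h
      exact one_ne_zero (α := F) (by linear_combination h)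
    rcases hz with h | h | h
    · rcases key _ _ _ h hn with e | e
      exacts [Or.inl ⟨h, e⟩, Or.inr (Or.inl ⟨h, e⟩)]
    · rcases key _ (mat x 2 0) (mat x 2 2) h (by linear_combination hn) with e | e
      exacts [Or.inl ⟨e, h⟩, Or.inr (Or.inr ⟨h, e⟩)]
    · rcases key _ (mat x 2 0) (mat x 2 1) h (by linear_combination hn) with e | e
      exacts [Or.inr (Or.inl ⟨e, h⟩), Or.inr (Or.inr ⟨e, h⟩)]
  simp only [not_or] at hz
  obtain ⟨h0, h1, h2⟩ := hz
  obtain ⟨r₀, hr₀⟩ : ∃ r, r = mat x 2 0 := ⟨_, rfl⟩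
  obtain ⟨r₁, hr₁⟩ : ∃ r, r = mat x 2 1 := ⟨_, rfl⟩
  obtain ⟨r₂, hr₂⟩ : ∃ r, r = mat x 2 2 := ⟨_, rfl⟩
  rw [← hr₀] at h0
  rw [← hr₁] at h1
  rw [← hr₂] at h2
  have e1 : r₁ * c.σ r₁ = 1 := nm_of_ne c hF h1
  have e2 : r₂ * c.σ r₂ = 1 := nm_of_ne c hF h2
  obtain ⟨B, hB, b0, b1, b2⟩ := hgood (c.σ (r₀ * r₁ * r₂))
    (by rw [nm_conj]; exact nm_of_ne c hF (mul_ne_zero (mul_ne_zero h0 h1) h2))
  obtain ⟨D, hD⟩ : ∃ D, D = emb c 0 (by norm_num : (0 : ℕ) + 2 ≤ 3) (dg c (c.σ (r₁ * r₂))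
      (by rw [nm_conj]; exact nm_of_ne c hF (mul_ne_zero h1 h2))) *
    emb c 1 (by norm_num : 1 + 2 ≤ 3) (dg c (c.σ r₂) (by rw [nm_conj]; exact nm_of_ne c hF h2)) :=
    ⟨_, rfl⟩
  have hBD : B * D ∈ S := mul_mem hB (hD ▸ mul_mem (S₀ _) (S₁ _))
  have hrow : ∀ j, mat (B * D) 2 j = mat x 2 j := by
    intro j
    rw [hD, ← mul_assoc, mat_mul, mat_mul, mat_three₀, mat_three₁, mat_dg, mat_dg]
    simp [Matrix.mul_apply, Fin.sum_univ_three]
    rw [b0, b1, b2]
    fin_cases j <;> simp [c.invol, ← hr₀, ← hr₁, ← hr₂]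
    · linear_combination (r₀ * (r₁ * c.σ r₁)) * e2 + r₀ * e1
    · linear_combination r₁ * e2
  have hlast : ∀ j, mat (x * (B * D)⁻¹) 2 j = (1 : Matrix (Fin 3) (Fin 3) F) 2 j := fun j => by
    rw [← mat_one (q := 2), ← mul_inv_cancel (B * D), mat_mul, mat_mul (B * D), Matrix.mul_apply,
      Matrix.mul_apply]
    exact Finset.sum_congr rfl fun q _ => by rw [hrow]
  exact (Subgroup.mul_mem_cancel_right S (inv_mem hBD)).1
    (row (Or.inl ⟨by rw [hlast]; simp, by rw [hlast]; simp⟩))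

end CfsgLib.SUPhanTwo
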