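/-
Two overlapping standard pairs inside an image of the four-dimensional group extend to it.
-/
import Cfsg.Agent.Lib.SUPhanTwo.Agree
import Cfsg.Agent.Lib.ClassicalForms.Unitary.Simple
import Cfsg.Agent.Lib.ClassicalForms.Unitary.Center

set_option autoImplicit false
set_option linter.unusedSectionVars false

open Matrix

namespace CfsgLib.SUPhanTwo

open CfsgLib.ClassicalForms CfsgLib.SUAmalgam

variable {F : Type*} [Field F] [Fintype F]

/-- The four-dimensional group has trivial centre. -/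
theorem center_eq_bot (hF : Nat.card F = 2 ^ 2) :
    Subgroup.center (SUg 4 F 2) = ⊥ := by
  refine eq_bot_iff.2 fun z hz => Subgroup.mem_bot.2 ?_
  obtain ⟨μ, hμ'⟩ := exists_scalar_of_commute_su hF (by norm_num) (suToGU z) fun s hs => by
    rw [← suToGU_suOfGU s hs]
    exact (Commute.map (Subgroup.mem_center_iff.1 hz (suOfGU s hs)).symm suToGU)
  have hμ : ∀ x, act z x = μ • x := fun x => hμ' x
  have hm : mat z = μ • (1 : Matrix (Fin 4) (Fin 4) F) := by
    refine Matrix.ext_of_mulVec_single fun k => ?_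
    show act z _ = _
    rw [hμ, Matrix.smul_mulVec, Matrix.one_mulVec]
  have hd : μ ^ 4 = 1 := by
    have h1 : (mat z).det = 1 := z.1.2
    rwa [hm, Matrix.det_smul, Matrix.det_one, mul_one, Fintype.card_fin] at h1
  have hμ0 : μ ≠ 0 := fun e => by simp [e] at hd
  have h1 : μ = 1 := by linear_combination hd - μ * pow_three hF hμ0
  exact ext_act fun k => by rw [hμ, h1, one_smul, act_one]

/-- A nontrivial homomorphism from the four-dimensional group is injective. -/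
theorem injective_of_ne_one (hF : Nat.card F = 2 ^ 2) {G : Type*} [Group G] (g : SUg 4 F 2 →* G)
    (hg : g ≠ 1) : Function.Injective g := by
  have hFc : Fintype.card F = 2 ^ 2 := by rw [← Nat.card_eq_fintype_card, hF]
  have hsimple : IsSimpleGroup (Cfsg.PSU 4 F 2) := isSimpleGroup_psu hFc (by norm_num) (by norm_num)
  refine (MonoidHom.ker_eq_bot_iff g).1 ?_
  set π := QuotientGroup.mk' (Subgroup.center (SUg 4 F 2)) with hπ
  have hN : (g.ker.map π).Normal := g.normal_ker.map _ (QuotientGroup.mk'_surjective _)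
  rcases hsimple.eq_bot_or_eq_top_of_normal (g.ker.map π) hN with e | e
  · rw [Subgroup.map_eq_bot_iff, QuotientGroup.ker_mk', center_eq_bot hF, le_bot_iff] at e
    exact e
  · exfalso
    refine hg (MonoidHom.ext fun x => ?_)
    obtain ⟨k, hk, hkx⟩ := e.ge (Subgroup.mem_top (π x))
    obtain ⟨z, hz, rfl⟩ := (QuotientGroup.mk'_eq_mk' _).1 hkx
    rw [center_eq_bot hF, Subgroup.mem_bot] at hz
    rw [hz, mul_one]
    exact hk

variable {c : Conj F 2}

theorem rel_down (hF : Nat.card F = 2 ^ 2) {w : F} (hw : nm c w = 1) :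
    emb c 0 (by norm_num : (0 : ℕ) + 2 ≤ 3) (dg c w hw) *
        emb c 1 (by norm_num : 1 + 2 ≤ 3) (ad c 1 (nm_one c)) =
      emb c 1 (by norm_num : 1 + 2 ≤ 3) (ad c 1 (nm_one c)) *
        (emb c 1 (by norm_num : 1 + 2 ≤ 3) (dg c w hw) * emb c 0 (by norm_num : (0 : ℕ) + 2 ≤ 3) (dg c w hw)) := by
  refine ext_mat fun i l => ?_
  simp only [mat_mul, mat_three₀, mat_three₁, mat_dg, mat_ad c hF]
  simp only [nm] at hw
  fin_cases i <;> fin_cases l <;> simp [mul_comm, hw]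

theorem rel_up (hF : Nat.card F = 2 ^ 2) {w : F} (hw : nm c w = 1) :
    emb c 1 (by norm_num : 1 + 2 ≤ 3) (dg c w hw) *
        emb c 0 (by norm_num : (0 : ℕ) + 2 ≤ 3) (ad c 1 (nm_one c)) =
      emb c 0 (by norm_num : (0 : ℕ) + 2 ≤ 3) (ad c 1 (nm_one c)) *
        (emb c 0 (by norm_num : (0 : ℕ) + 2 ≤ 3) (dg c w hw) * emb c 1 (by norm_num : 1 + 2 ≤ 3) (dg c w hw)) := by
  refine ext_mat fun i l => ?_
  simp only [mat_mul, mat_three₀, mat_three₁, mat_dg, mat_ad c hF]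
  simp only [nm] at hw
  fin_cases i <;> fin_cases l <;> simp [mul_comm, hw]

theorem rel_comm {w : F} (hw : nm c w = 1) :
    Commute (emb c 0 (by norm_num : (0 : ℕ) + 2 ≤ 3) (dg c w hw))
      (emb c 1 (by norm_num : 1 + 2 ≤ 3) (dg c w hw)) := by
  refine ext_mat fun i l => ?_
  simp only [mat_mul, mat_three₀, mat_three₁, mat_dg]
  fin_cases i <;> fin_cases l <;> simp [mul_comm]

/-- Two overlapping pairs in the four-dimensional group itself. -/
theorem exists_alpha (hF : Nat.card F = 2 ^ 2) (Φ Φ' : SUg 3 F 2 →* SUg 4 F 2)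
    (hcomp : Φ'.comp (emb (r := 2) c 0 (by norm_num)) = Φ.comp (emb (r := 2) c 1 (by norm_num)))
    (i₀ : Function.Injective (Φ.comp (emb (r := 2) c 0 (by norm_num))))
    (i₁ : Function.Injective (Φ.comp (emb (r := 2) c 1 (by norm_num))))
    (i₂ : Function.Injective (Φ'.comp (emb (r := 2) c 1 (by norm_num))))
    (hfar : ∀ x y, Commute (Φ (emb c 0 (by norm_num : (0 : ℕ) + 2 ≤ 3) x))
      (Φ' (emb c 1 (by norm_num : 1 + 2 ≤ 3) y))) :
    ∃ α : SUg 4 F 2 →* SUg 4 F 2,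
      α.comp (emb (r := 3) c 0 (by norm_num)) = Φ ∧ α.comp (emb (r := 3) c 1 (by norm_num)) = Φ' := by
  classical
  obtain ⟨w, hw'⟩ := exists_w hF
  have hw : nm c w = 1 := nm_of_ne c hF (w_ne_zero hF hw')
  let a : Fin 3 → (SUg 2 F 2 →* SUg 4 F 2) :=
    ![Φ.comp (emb (r := 2) c 0 (by norm_num)), Φ.comp (emb (r := 2) c 1 (by norm_num)),
      Φ'.comp (emb (r := 2) c 1 (by norm_num))]
  have e1 : ∀ y, Φ' (emb c 0 (by norm_num : (0 : ℕ) + 2 ≤ 3) y) = a 1 y := fun y =>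
    DFunLike.congr_fun hcomp y
  have hkl : ∀ k l : Fin 3, (k : ℕ) + 1 = l → (k = 0 ∧ l = 1) ∨ (k = 1 ∧ l = 2) := by decide
  have W : Tri c a hw := by
    refine ⟨fun k => ?_, hfar, fun k l h => ?_, fun k l h => ?_, fun k l h => ?_⟩
    · fin_cases k
      exacts [i₀, i₁, i₂]
    all_goals rcases hkl k l h with ⟨rfl, rfl⟩ | ⟨rfl, rfl⟩
    · exact (rel_comm hw).map Φ
    · show Commute (a 1 (dg c w hw)) (a 2 (dg c w hw))
      rw [← e1]; exact (rel_comm hw).map Φ'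
    · show Φ _ * Φ _ = Φ _ * (Φ _ * Φ _)
      rw [← map_mul, ← map_mul, ← map_mul, rel_up hF hw]
    · show Φ' _ * a 1 _ = a 1 _ * (a 1 _ * Φ' _)
      rw [← e1, ← e1, ← map_mul, ← map_mul, ← map_mul, rel_up hF hw]
    · show Φ _ * Φ _ = Φ _ * (Φ _ * Φ _)
      rw [← map_mul, ← map_mul, ← map_mul, rel_down hF hw]
    · show a 1 _ * Φ' _ = Φ' _ * (Φ' _ * a 1 _)
      rw [← e1, ← map_mul, ← map_mul, ← map_mul, rel_down hF hw]
  obtain ⟨α, hα⟩ := W.exists_iso hF hw'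
  have key : ∀ (i : ℕ) (hi : i + 3 ≤ 4) (Ψ : SUg 3 F 2 →* SUg 4 F 2),
      (∀ g, Ψ (emb c 0 (by norm_num : (0 : ℕ) + 2 ≤ 3) g) = α (emb c (i + 0) (by omega) g)) →
      (∀ g, Ψ (emb c 1 (by norm_num : 1 + 2 ≤ 3) g) = α (emb c (i + 1) (by omega) g)) →
      α.toMonoidHom.comp (emb c i hi) = Ψ := by
    intro i hi Ψ h₀ h₁
    have h := agree c hF hi (α.symm.toMonoidHom.comp Ψ)
      (fun g => by
        show α.symm (Ψ _) = _
        rw [h₀, MulEquiv.symm_apply_apply, emb_emb])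
      (fun g => by
        show α.symm (Ψ _) = _
        rw [h₁, MulEquiv.symm_apply_apply, emb_emb])
    rw [← h]
    exact MonoidHom.ext fun x => α.apply_symm_apply _
  exact ⟨α.toMonoidHom, key 0 _ Φ (fun g => (hα 0 g).symm) (fun g => (hα 1 g).symm),
    key 1 _ Φ' (fun g => (e1 g).trans (hα 1 g).symm) (fun g => (hα 2 g).symm)⟩

/-- Two overlapping pairs inside an image of the four-dimensional group. -/
theorem exists_window (hF : Nat.card F = 2 ^ 2) {G : Type*} [Group G] {V V' A B B' C : Subgroup G}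
    {φ φ' : SUg 3 F 2 →* G} (h : IsPair c V A B φ) (h' : IsPair c V' B' C φ')
    (hcomp : φ'.comp (emb (r := 2) c 0 (by norm_num)) = φ.comp (emb (r := 2) c 1 (by norm_num)))
    (hAC : ∀ x ∈ A, ∀ y ∈ C, x * y = y * x)
    (g₀ : SUg 4 F 2 →* ↥(V ⊔ V')) (hg₀ : Function.Surjective g₀) :
    ∃ α : SUg 4 F 2 →* G,
      α.comp (emb (r := 3) c 0 (by norm_num)) = φ ∧ α.comp (emb (r := 3) c 1 (by norm_num)) = φ' := by
  classical
  obtain ⟨g, hgdef⟩ : ∃ g, g = (V ⊔ V').subtype.comp g₀ := ⟨_, rfl⟩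
  have hgφ : ∀ x, φ x ∈ g.range := fun x => by
    obtain ⟨y, hy⟩ := hg₀ ⟨φ x, Subgroup.mem_sup_left (h.range.le ⟨x, rfl⟩)⟩
    exact ⟨y, by rw [hgdef]; exact congrArg Subtype.val hy⟩
  have hgφ' : ∀ x, φ' x ∈ g.range := fun x => by
    obtain ⟨y, hy⟩ := hg₀ ⟨φ' x, Subgroup.mem_sup_right (h'.range.le ⟨x, rfl⟩)⟩
    exact ⟨y, by rw [hgdef]; exact congrArg Subtype.val hy⟩
  obtain ⟨w, hw'⟩ := exists_w hF
  have hw : nm c w = 1 := nm_of_ne c hF (w_ne_zero hF hw')
  have hg1 : g ≠ 1 := fun e => by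
    obtain ⟨y, hy⟩ := hgφ (emb c 0 (by norm_num : (0 : ℕ) + 2 ≤ 3) (dg c w hw))
    rw [e, MonoidHom.one_apply] at hy
    have h1 : dg c w hw = 1 := h.inj₀ (hy.symm.trans (map_one (φ.comp (emb c 0 _))).symm)
    have h00 := congrArg (fun p => mat p 0 0) h1
    simp [mat_dg] at h00
    exact w_ne_one hF hw' h00
  let e := (MonoidHom.ofInjective (injective_of_ne_one hF g hg1)).symm.toMonoidHom
  let Φ := e.comp (φ.codRestrict g.range hgφ)
  let Φ' := e.comp (φ'.codRestrict g.range hgφ')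
  have he : ∀ p : g.range, g (e p) = p := fun p => MonoidHom.apply_ofInjective_symm _ p
  have hΦ : ∀ x, g (Φ x) = φ x := fun x => he _
  have hΦ' : ∀ x, g (Φ' x) = φ' x := fun x => he _
  have ginj := injective_of_ne_one hF g hg1
  obtain ⟨α, hα, hα'⟩ := exists_alpha (c := c) hF Φ Φ'
    (MonoidHom.ext fun x => ginj (((hΦ' _).trans (DFunLike.congr_fun hcomp x)).trans (hΦ _).symm))
    (fun x y exy => h.inj₀ (((hΦ _).symm.trans (congrArg g exy)).trans (hΦ _)))
    (fun x y exy => h.inj₁ (((hΦ _).symm.trans (congrArg g exy)).trans (hΦ _)))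
    (fun x y exy => h'.inj₁ (((hΦ' _).symm.trans (congrArg g exy)).trans (hΦ' _)))
    (fun x y => ginj (by
      rw [map_mul, map_mul, hΦ, hΦ']
      exact hAC _ (h.range₀.le ⟨x, rfl⟩) _ (h'.range₁.le ⟨y, rfl⟩)))
  exact ⟨g.comp α, by rw [MonoidHom.comp_assoc, hα]; exact MonoidHom.ext hΦ,
    by rw [MonoidHom.comp_assoc, hα']; exact MonoidHom.ext hΦ'⟩

end CfsgLib.SUPhanTwo
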